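import Cfsg.Agent.Chev.G2Spec.Tables
import Cfsg.Agent.G2Singer.LongRoots
import Mathlib.LinearAlgebra.Matrix.Charpoly.Coeff

/-!
Elements of prime power order commuting with a semisimple element of G2 over an algebraically
closed field of the same characteristic.
-/

set_option autoImplicit false

namespace Cfsg.Agent.G2Spec

open Cfsg.Lie Cfsg.Agent.Chev Cfsg.Agent.Chev.SS
open Cfsg.Agent.Chev.G2Odd Cfsg.Agent.Chev.InvolTorus
open Cfsg.Agent.Chev.G2Invol (ia ib)
open Matrix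
open scoped MatrixGroups

universe u

variable {k : Type u} [Field k]

theorem mem_of_comm [IsAlgClosed k] (htor : ∀ a : kˣ, ∃ n : ℕ, (n : k) ≠ 0 ∧ a ^ n = 1)
    {c : Fin chevG2.rank → kˣ} {g : GL chevG2.Idx k} (hg : g ∈ chevG2.group k)
    (hcomm : torusHom c * g = g * torusHom c) (H : Subgroup (GL chevG2.Idx k))
    (hroot : ∀ r : Fin chevG2.nroots, chiU c (r : ℕ) = 1 →
      ∀ t, xG facts_chevG2.{u} (r : ℕ) t ∈ H)
    (htorus : ∀ d, (torusHom d : GL chevG2.Idx k) ∈ H) : g ∈ H := by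
  have hF := facts_chevG2.{u}
  have hle : centRoots hF c ≤ H := by
    refine (Subgroup.closure_le _).2 ?_
    rintro x ⟨r, t, hr, rfl⟩
    exact hroot r hr t
  obtain ⟨l₁, hl₁, l₂, hl₂, d, w, rfl, hw⟩ := exists_decomp hF hg hcomm
  have hwc : wordC chevG2 w c = c := by
    refine torus_injective (torusHom_eq_of_chiU_eq fun s => ?_)
    obtain ⟨r, rfl⟩ := (pWord hF w).surjective s
    rw [chiU_wordC hF, hw]
  obtain ⟨a, ha, hamon, haπ⟩ := exists_mon_centRoots hF alcoveG2_valid htor hwc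
  obtain ⟨d₁, hd₁⟩ : ∃ d₁, (torusHom d₁ : GL chevG2.Idx k) = nWord hF w * a⁻¹ :=
    (mem_diagonal_iff hF).1 (mem_diagonal_of_isMon_one hF
      (Subgroup.mul_mem _ (nWord_mem hF w) (Subgroup.inv_mem _ hamon)) (by
        simpa using isMon_mul hF (isMon_nWord hF w (F := k)) (isMon_symm hF haπ)))
  have hn : (nWord hF w : GL chevG2.Idx k) ∈ H := by
    have h := Subgroup.mul_mem _ (hd₁ ▸ htorus d₁) (hle ha)
    rwa [inv_mul_cancel_right] at h
  exact Subgroup.mul_mem _ (Subgroup.mul_mem _ (Subgroup.mul_mem _ (hle hl₁) (htorus d)) hn)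
    (hle hl₂)

/-- The torus elements trivial at the given roots. -/
def kerTorus (R : List ℕ) : Subgroup (Fin chevG2.rank → kˣ) where
  carrier := {c | ∀ r ∈ R, chiU c r = 1}
  one_mem' r _ := by simp [chiU]
  mul_mem' {a b} ha hb r hr := by rw [chiU_mul', ha r hr, hb r hr, mul_one]
  inv_mem' {a} ha r hr := by
    show chiU a⁻¹ r = 1
    have h := chiU_mul' a⁻¹ a r
    rw [inv_mul_cancel, ha r hr, mul_one] at h
    rw [← h]; simp [chiU]

theorem chiU_neg_simple {c : Fin chevG2.rank → kˣ} {r : ℕ} (hr : r < chevG2.nroots)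
    (h : chiU c r = 1) : chiU c (chevG2.neg r) = 1 := by
  have e : chiU c (chevG2.neg r) = (chiU c r)⁻¹ := by
    rw [chiU, chiU, ← Finset.prod_inv_distrib]
    exact Finset.prod_congr rfl fun j _ => by
      rw [(facts_chevG2.{u}).cartan_neg r hr j j.2, _root_.zpow_neg]
  rw [e, h, inv_one]

theorem rank1_le_centralizer {φ : SpecialLinearGroup (Fin 2) k →* GL chevG2.Idx k} {r : ℕ}
    (R : Rank1 φ r (chevG2.neg r)) (hr : r < chevG2.nroots) {c : Fin chevG2.rank → kˣ}
    (hc : chiU c r = 1) :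
    φ.range ≤ Subgroup.centralizer {(torusHom c : GL chevG2.Idx k)} := by
  refine R.range_le (fun t => ?_) (fun t => ?_) <;> rw [Subgroup.mem_centralizer_singleton_iff]
  · rw [torusHom_conj facts_chevG2.{u} c hr, hc, Units.val_one, one_mul]
  · rw [torusHom_conj facts_chevG2.{u} c (neg_lt facts_chevG2.{u} hr), chiU_neg_simple hr hc,
      Units.val_one, one_mul]

theorem exists_rank1 (i : Fin chevG2.rank) :
    ∃ φ : SpecialLinearGroup (Fin 2) k →* GL chevG2.Idx k,
      Rank1 φ (chevG2.simple i) (chevG2.neg (chevG2.simple i)) ∧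
        ∀ a : kˣ, φ (diag2 a) = torusHom (Pi.mulSingle i a) := by
  obtain ⟨φ, -, hu, hl, hn, hT, -⟩ := exists_simpleHom facts_chevG2.{u} i (F := k)
  refine ⟨φ, ⟨simpleHom_injective i hu hn hT, ⟨1, one_ne_zero, fun t => ?_⟩,
    ⟨1, one_ne_zero, fun t => ?_⟩⟩, fun a => ?_⟩
  · rw [hu _ t rfl, one_mul]
  · rw [hl (lower t) t rfl, one_mul]
  · rw [hT (diag2 a) a rfl, coH_simple facts_chevG2.{u} i.2]

/-- Every element of `SL₂` over an algebraically closed field is conjugate to a triangular one. -/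
theorem exists_triangular [IsAlgClosed k] (A : SpecialLinearGroup (Fin 2) k) :
    ∃ (P : SpecialLinearGroup (Fin 2) k) (a : kˣ) (b : k),
      P * A * P⁻¹ = diag2 a * SL2Data.upper b := by
  have fin : ∀ B : SpecialLinearGroup (Fin 2) k, B.1 1 0 = 0 →
      ∃ (a : kˣ) (b : k), B = diag2 a * SL2Data.upper b := by
    intro B h10
    have hdet := SL2Data.det_eq B
    rw [h10, mul_zero, sub_zero] at hdet
    refine ⟨Units.mk0 _ (left_ne_zero_of_mul_eq_one hdet), B.1 0 1 / B.1 0 0, Subtype.ext ?_⟩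
    have hne := left_ne_zero_of_mul_eq_one hdet
    show B.1 = !![B.1 0 0, 0; 0, (B.1 0 0)⁻¹] * !![1, B.1 0 1 / B.1 0 0; 0, 1]
    rw [inv_eq_of_mul_eq_one_right hdet]
    ext i j
    fin_cases i <;> fin_cases j <;> simp [h10, Matrix.mul_apply, Fin.sum_univ_two, mul_div_cancel₀, hne]
  by_cases hb : A.1 0 1 = 0
  · obtain ⟨a, b, e⟩ := fin (SL2Data.weyl * A * SL2Data.weyl⁻¹) (by
      show ((SL2Data.weyl (F := k)).1 * A.1 * (SL2Data.weyl (F := k)).1.adjugate) 1 0 = 0
      simp [SL2Data.weyl, Matrix.SpecialLinearGroup.coe_mul, Matrix.SpecialLinearGroup.coe_inv,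
        Matrix.adjugate_fin_two, Matrix.mul_apply, Matrix.vecMul, dotProduct, Fin.sum_univ_two, hb])
    exact ⟨_, a, b, e⟩
  · obtain ⟨x, hx⟩ := IsAlgClosed.exists_root
      (Polynomial.C (-A.1 0 1) * Polynomial.X ^ 2 + Polynomial.C (A.1 0 0 - A.1 1 1) * Polynomial.X +
        Polynomial.C (A.1 1 0)) (by
        rw [Polynomial.degree_quadratic (neg_ne_zero.2 hb)]; decide)
    obtain ⟨a, b, e⟩ := fin (lower x * A * (lower x)⁻¹) (by
      rw [Polynomial.IsRoot] at hx
      simp only [Polynomial.eval_add, Polynomial.eval_mul, Polynomial.eval_C, Polynomial.eval_pow,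
        Polynomial.eval_X] at hx
      show ((lower x).1 * A.1 * (lower x).1.adjugate) 1 0 = 0
      simp [lower, Matrix.SpecialLinearGroup.coe_mul, Matrix.SpecialLinearGroup.coe_inv,
        Matrix.adjugate_fin_two, Matrix.mul_apply, Matrix.vecMul, dotProduct, Fin.sum_univ_two]
      linear_combination hx)
    exact ⟨_, a, b, e⟩

/-- A unipotent element of finite `p`-power order times a torus element. -/
theorem torus_eq_one_of_pow (p : ℕ) [Fact p.Prime] [CharP k p] {u : GL chevG2.Idx k}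
    (hu : u ∈ chevG2.posUnipotent k) (d : Fin chevG2.rank → kˣ) {j : ℕ}
    (h : (torusHom d * u) ^ p ^ j = 1) : d = 1 := by
  have hF := facts_chevG2.{u}
  have key : ∀ n : ℕ, ∃ u' ∈ chevG2.posUnipotent k,
      (torusHom d * u) ^ n = u' * torusHom (d ^ n) := by
    intro n
    induction n with
    | zero => exact ⟨1, Subgroup.one_mem _, by simp⟩
    | succ n ih =>
      obtain ⟨u', hu', e⟩ := ih
      refine ⟨u' * (torusHom (d ^ (n + 1)) * u * (torusHom (d ^ (n + 1)))⁻¹),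
        Subgroup.mul_mem _ hu' ?_, ?_⟩
      · exact (Subgroup.mem_normalizer_iff.1 (torusHom_mem_normalizer hF _) u).1 hu
      · rw [pow_succ, e, pow_succ, map_mul, map_pow]
        group
  obtain ⟨u', hu', e⟩ := key (p ^ j)
  rw [h] at e
  have h1 := (posUnipotent_torus_unique hF (Subgroup.one_mem _) hu' (c := 1) (c' := d ^ p ^ j) (by
    rw [map_one, mul_one]; exact e)).2
  have h2 : d ^ p ^ j = 1 := (torus_injective h1).symm
  funext i
  refine Units.ext ?_
  have h3 := congrArg Units.val (congrFun h2 i)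
  rw [Pi.pow_apply, Units.val_pow_eq_pow_val, Pi.one_apply, Units.val_one] at h3
  have h4 : ((d i : k) - 1) ^ p ^ j = 0 := by
    rw [sub_pow_char_pow_of_commute p j (Commute.one_right _), h3, one_pow, sub_self]
  rw [Pi.one_apply, Units.val_one]
  exact sub_eq_zero.1 (pow_eq_zero_iff (pow_ne_zero _ (Fact.out : p.Prime).ne_zero) |>.1 h4)

theorem xG_pow_char (p : ℕ) [CharP k p] (r : ℕ) (t : k) :
    xG facts_chevG2.{u} r t ^ p = 1 := by
  have key : ∀ n : ℕ, xG facts_chevG2.{u} r t ^ n = xG facts_chevG2.{u} r ((n : k) * t) := by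
    intro n
    induction n with
    | zero => rw [pow_zero, Nat.cast_zero, zero_mul, xG_zero]
    | succ n ih => rw [pow_succ, ih, xG_mul, Nat.cast_succ, add_mul, one_mul]
  rw [key, CharP.cast_eq_zero, zero_mul, xG_zero]

/-- One fundamental root trivial at the semisimple element. -/
theorem pow_eq_one_single [IsAlgClosed k] (htor : ∀ a : kˣ, ∃ n : ℕ, (n : k) ≠ 0 ∧ a ^ n = 1)
    (p : ℕ) [Fact p.Prime] [CharP k p] {c : Fin chevG2.rank → kˣ} (i : Fin chevG2.rank)
    (hR : ∀ r : Fin chevG2.nroots, chiU c (r : ℕ) = 1 →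
      (r : ℕ) = chevG2.simple i ∨ (r : ℕ) = chevG2.neg (chevG2.simple i))
    {g : GL chevG2.Idx k} (hg : g ∈ chevG2.group k) (hcomm : torusHom c * g = g * torusHom c)
    {j : ℕ} (hj : g ^ p ^ j = 1) : g ^ p = 1 := by
  have hF := facts_chevG2.{u}
  set s := chevG2.simple i with hs
  have hsn : s < chevG2.nroots := hF.simple_lt i i.2
  obtain ⟨φ, R, hT⟩ := exists_rank1 i (k := k)
  set Z := (kerTorus [s]).map (torusHom : (Fin chevG2.rank → kˣ) →* GL chevG2.Idx k) with hZ
  have hZc : Z ≤ Subgroup.centralizer (φ.range : Set (GL chevG2.Idx k)) := by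
    rintro _ ⟨d, hd, rfl⟩
    rw [Subgroup.mem_centralizer_iff]
    exact fun x hx => Subgroup.mem_centralizer_singleton_iff.1
      (rank1_le_centralizer R hsn (hd s (by simp)) hx)
  have htorus : ∀ d, (torusHom d : GL chevG2.Idx k) ∈ φ.range ⊔ Z := by
    intro d
    obtain ⟨a, ha⟩ := IsAlgClosed.exists_pow_nat_eq (chiU d s : k) two_pos
    have ha0 : a ≠ 0 := fun h => (chiU d s).ne_zero (by rw [← ha, h, zero_pow two_ne_zero])
    set e : Fin chevG2.rank → kˣ := Pi.mulSingle i (Units.mk0 a ha0)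
    have h1 : torusHom d = φ (diag2 (Units.mk0 a ha0)) * torusHom (e⁻¹ * d) := by
      rw [hT, ← map_mul, mul_inv_cancel_left]
    rw [h1]
    refine Subgroup.mul_mem _ (Subgroup.mem_sup_left ⟨_, rfl⟩) (Subgroup.mem_sup_right ⟨_, ?_, rfl⟩)
    intro r hr
    obtain rfl : r = s := by simpa using hr
    have e1 := chiU_mul' e⁻¹ e s
    rw [inv_mul_cancel, chiU_mulSingle' i, show chevG2.cartan i s = 2 from
      hF.cartan_self i i.2] at e1
    have e2 : chiU d s = Units.mk0 a ha0 ^ (2 : ℤ) := by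
      refine Units.ext ?_
      rw [show (2 : ℤ) = ((2 : ℕ) : ℤ) from rfl, zpow_natCast, Units.val_pow_eq_pow_val,
        Units.val_mk0, ha]
    rw [chiU_mul', e2, ← e1]
    simp [chiU]
  have hmem : g ∈ φ.range ⊔ Z := by
    refine mem_of_comm htor hg hcomm _ (fun r hr t => ?_) htorus
    rcases hR r hr with e | e <;> rw [e]
    · exact Subgroup.mem_sup_left (R.x_mem t)
    · exact Subgroup.mem_sup_left (R.x_mem' t)
  rw [← SetLike.mem_coe, Subgroup.coe_mul_of_right_le_normalizer_left _ _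
    (hZc.trans (Subgroup.centralizer_le_normalizer _)), Set.mem_mul] at hmem
  obtain ⟨_, ⟨A, rfl⟩, _, ⟨z, hz, rfl⟩, rfl⟩ := hmem
  obtain ⟨P, a, b, hP⟩ := exists_triangular A
  obtain ⟨m, -, hm⟩ := R.up
  have hPz : φ P * torusHom z = torusHom z * φ P :=
    Subgroup.mem_centralizer_singleton_iff.1
      (rank1_le_centralizer R hsn (hz s (by simp)) ⟨P, rfl⟩)
  have hconj : φ P * (φ A * torusHom z) * (φ P)⁻¹ =
      torusHom (Pi.mulSingle i a * z) * xG hF s (m * b) := by
    calc φ P * (φ A * torusHom z) * (φ P)⁻¹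
        = φ P * φ A * (φ P)⁻¹ * (φ P * torusHom z * (φ P)⁻¹) := by group
      _ = φ (P * A * P⁻¹) * torusHom z := by
        rw [hPz, mul_inv_cancel_right, map_mul, map_mul, map_inv]
      _ = _ := by
        rw [hP, map_mul φ, hT, hm, map_mul torusHom, mul_assoc, mul_assoc]
        congr 1
        rw [torusHom_conj hF z hsn, hz s (by simp), Units.val_one, one_mul]
  have hu : xG hF s (m * b) ∈ chevG2.posUnipotent k :=
    mem_posUnipotent_of hF hsn (hF.simple_pos i i.2) _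
  have hd := torus_eq_one_of_pow p hu (Pi.mulSingle i a * z) (j := j)
    (by rw [← hconj, conj_pow, hj]; group)
  rw [hd, map_one, one_mul] at hconj
  have h := congrArg (fun x => x ^ p) hconj
  simp only [conj_pow, xG_pow_char p] at h
  exact conj_eq_one_iff.1 h

/-- Two orthogonal roots trivial at the semisimple element. -/
theorem pow_eq_one_pair [IsAlgClosed k] (htor : ∀ a : kˣ, ∃ n : ℕ, (n : k) ≠ 0 ∧ a ^ n = 1)
    (p : ℕ) [Fact p.Prime] [CharP k p] {c : Fin chevG2.rank → kˣ}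
    (hR : ∀ r : Fin chevG2.nroots, chiU c (r : ℕ) = 1 → (r : ℕ) ∈ [0, 4, 7, 11])
    {g : GL chevG2.Idx k} (hg : g ∈ chevG2.group k) (hcomm : torusHom c * g = g * torusHom c)
    {j : ℕ} (hj : g ^ p ^ j = 1) : g ^ p = 1 := by
  have hF := facts_chevG2.{u}
  obtain ⟨-, -, -, -, -, -, -, -, hcommt, -, -, -⟩ := root_tables
  obtain ⟨φ₁, φ₂, R₁, R₂, -, -, hT₁, hT₂, -, -⟩ := exists_homs (F := k)
  have hn4 : chevG2.neg 7 = 4 ∧ chevG2.neg 11 = 0 ∧ 7 < chevG2.nroots ∧ 11 < chevG2.nroots ∧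
      half chevG2 ≤ 7 ∧ half chevG2 ≤ 11 := by decide +kernel
  obtain ⟨hn4, hn0, h7, h11, h7p, h11p⟩ := hn4
  have R₁' : Rank1 φ₁ 7 (chevG2.neg 7) := by rw [hn4]; exact R₁
  have R₂' : Rank1 φ₂ 11 (chevG2.neg 11) := by rw [hn0]; exact R₂
  have hcm : ∀ r ∈ ([7, 4] : List ℕ), ∀ r' ∈ ([11, 0] : List ℕ), ∀ s t : k,
      Commute (xG hF r s) (xG hF r' t) := by
    intro r hr r' hr' s t
    obtain ⟨a1, a2, a3, a4, a5⟩ := hcommt (r, r') (by
      simp at hr hr'; rcases hr with rfl | rfl <;> rcases hr' with rfl | rfl <;> simp)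
    have := xG_comm hF a1 a2 a3 a4 s t
    rw [ChevalleyDatum.commWord, a5, List.map_nil, wordG, List.map_nil, List.prod_nil,
      mul_one] at this
    exact this.symm
  have hcom : φ₂.range ≤ Subgroup.centralizer (φ₁.range : Set (GL chevG2.Idx k)) := by
    have h1 : ∀ r' ∈ ([11, 0] : List ℕ), ∀ t : k,
        φ₁.range ≤ Subgroup.centralizer {xG hF r' t} := by
      intro r' hr' t
      refine R₁.range_le (fun s => ?_) (fun s => ?_) <;> rw [Subgroup.mem_centralizer_singleton_iff]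
      · exact (hcm 7 (by simp) r' hr' s t).eq
      · exact (hcm 4 (by simp) r' hr' s t).eq
    refine R₂.range_le (fun t => ?_) (fun t => ?_) <;> rw [Subgroup.mem_centralizer_iff]
    · exact fun x hx => Subgroup.mem_centralizer_singleton_iff.1 (h1 11 (by simp) t hx)
    · exact fun x hx => Subgroup.mem_centralizer_singleton_iff.1 (h1 0 (by simp) t hx)
  set Z := (kerTorus [7, 11]).map (torusHom : (Fin chevG2.rank → kˣ) →* GL chevG2.Idx k) with hZ
  have hZc : Z ≤ Subgroup.centralizer ((φ₁.range ⊔ φ₂.range : Subgroup _) : Set (GL chevG2.Idx k)) := by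
    rintro _ ⟨d, hd, rfl⟩
    rw [Subgroup.mem_centralizer_iff]
    intro x hx
    exact Subgroup.mem_centralizer_singleton_iff.1
      ((sup_le (rank1_le_centralizer R₁' h7 (hd 7 (by simp)))
        (rank1_le_centralizer R₂' h11 (hd 11 (by simp)))) hx)
  have t7 : chevG2.cartan ia 7 = 2 ∧ chevG2.cartan ib 7 = -1 ∧ chevG2.cartan ia 11 = 0 ∧
      chevG2.cartan ib 11 = 1 := by decide +kernel
  obtain ⟨c1, c2, c3, c4⟩ := t7
  have htorus : ∀ d, (torusHom d : GL chevG2.Idx k) ∈ φ₁.range ⊔ φ₂.range ⊔ Z := by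
    intro d
    obtain ⟨a, ha⟩ := IsAlgClosed.exists_pow_nat_eq (chiU d 7 : k) two_pos
    have ha0 : a ≠ 0 := fun h => (chiU d 7).ne_zero (by rw [← ha, h, zero_pow two_ne_zero])
    obtain ⟨b, hb⟩ := IsAlgClosed.exists_pow_nat_eq (chiU d 11 : k) two_pos
    have hb0 : b ≠ 0 := fun h => (chiU d 11).ne_zero (by rw [← hb, h, zero_pow two_ne_zero])
    set a' := Units.mk0 a ha0
    set b' := Units.mk0 b hb0
    set e : Fin chevG2.rank → kˣ :=
      Pi.mulSingle ia a' * (Pi.mulSingle ia b' * Pi.mulSingle ib (b' ^ 2)) with he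
    have h1 : torusHom d = φ₁ (diag2 a') * φ₂ (diag2 b') * torusHom (e⁻¹ * d) := by
      rw [hT₁, hT₂, ← map_mul, ← map_mul, ← he, mul_inv_cancel_left]
    rw [h1]
    refine Subgroup.mul_mem _ (Subgroup.mul_mem _ (Subgroup.mem_sup_left (Subgroup.mem_sup_left
      ⟨_, rfl⟩)) (Subgroup.mem_sup_left (Subgroup.mem_sup_right ⟨_, rfl⟩)))
      (Subgroup.mem_sup_right ⟨_, ?_, rfl⟩)
    have ea : a' ^ 2 = chiU d 7 := Units.ext (by simp [a', ha])
    have eb : b' ^ 2 = chiU d 11 := Units.ext (by simp [b', hb])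
    have he7 : chiU e 7 = chiU d 7 := by
      rw [← ea, he, chiU_mul', chiU_mul', chiU_mulSingle' ia, chiU_mulSingle' ia,
        chiU_mulSingle' ib, c1, c2]
      group
    have he11 : chiU e 11 = chiU d 11 := by
      rw [← eb, he, chiU_mul', chiU_mul', chiU_mulSingle' ia, chiU_mulSingle' ia,
        chiU_mulSingle' ib, c3, c4]
      group
    intro r hr
    have e1 := chiU_mul' e⁻¹ e r
    rw [inv_mul_cancel] at e1
    simp only [List.mem_cons, List.not_mem_nil, or_false] at hr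
    rcases hr with rfl | rfl
    · rw [chiU_mul', ← he7, ← e1]; simp [chiU]
    · rw [chiU_mul', ← he11, ← e1]; simp [chiU]
  have hmem : g ∈ φ₁.range ⊔ φ₂.range ⊔ Z := by
    refine mem_of_comm htor hg hcomm _ (fun r hr t => ?_) htorus
    have h := hR r hr
    simp only [List.mem_cons, List.not_mem_nil, or_false] at h
    rcases h with e | e | e | e <;> rw [e]
    · exact Subgroup.mem_sup_left (Subgroup.mem_sup_right (R₂.x_mem' t))
    · exact Subgroup.mem_sup_left (Subgroup.mem_sup_left (R₁.x_mem' t))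
    · exact Subgroup.mem_sup_left (Subgroup.mem_sup_left (R₁.x_mem t))
    · exact Subgroup.mem_sup_left (Subgroup.mem_sup_right (R₂.x_mem t))
  rw [← SetLike.mem_coe, Subgroup.coe_mul_of_right_le_normalizer_left _ _
    (hZc.trans (Subgroup.centralizer_le_normalizer _)),
    Subgroup.coe_mul_of_right_le_normalizer_left _ _
    (hcom.trans (Subgroup.centralizer_le_normalizer _)), Set.mem_mul] at hmem
  obtain ⟨_, hab, _, ⟨z, hz, rfl⟩, rfl⟩ := hmem
  obtain ⟨_, ⟨A, rfl⟩, _, ⟨B, rfl⟩, rfl⟩ := Set.mem_mul.1 hab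
  obtain ⟨P, a, b, hP⟩ := exists_triangular A
  obtain ⟨Q, a', b', hQ⟩ := exists_triangular B
  obtain ⟨m, -, hm⟩ := R₁.up
  obtain ⟨m', -, hm'⟩ := R₂.up
  have hcc : ∀ X Y, Commute (φ₁ X) (φ₂ Y) := fun X Y =>
    Subgroup.mem_centralizer_iff.1 (hcom ⟨Y, rfl⟩) _ ⟨X, rfl⟩
  have hzc : Commute (φ₁ P * φ₂ Q) (torusHom z) :=
    Subgroup.mem_centralizer_singleton_iff.1
      ((sup_le (rank1_le_centralizer R₁' h7 (hz 7 (by simp)))
        (rank1_le_centralizer R₂' h11 (hz 11 (by simp))))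
        (Subgroup.mul_mem _ (Subgroup.mem_sup_left ⟨P, rfl⟩) (Subgroup.mem_sup_right ⟨Q, rfl⟩)))
  set T := φ₁ P * φ₂ Q with hTdef
  set d := Pi.mulSingle ia a * (Pi.mulSingle ia a' * Pi.mulSingle ib (a' ^ 2)) * z with hd0
  have hconj : T * (φ₁ A * φ₂ B * torusHom z) * T⁻¹ =
      torusHom d * (xG hF 7 (m * b) * xG hF 11 (m' * b')) := by
    have e1 : T * φ₁ A * T⁻¹ = φ₁ (P * A * P⁻¹) := by
      rw [hTdef, map_mul, map_mul, map_inv, _root_.mul_inv_rev, mul_assoc (φ₁ P) (φ₂ Q), (hcc A Q).symm.eq]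
      group
    have e2 : T * φ₂ B * T⁻¹ = φ₂ (Q * B * Q⁻¹) := by
      rw [hTdef, (hcc P Q).eq, map_mul, map_mul, map_inv, _root_.mul_inv_rev, mul_assoc (φ₂ Q) (φ₁ P),
        (hcc P B).eq]
      group
    have e3 : T * torusHom z * T⁻¹ = torusHom z := by rw [hzc.eq, mul_inv_cancel_right]
    calc T * (φ₁ A * φ₂ B * torusHom z) * T⁻¹
        = (T * φ₁ A * T⁻¹) * (T * φ₂ B * T⁻¹) * (T * torusHom z * T⁻¹) := by group
      _ = φ₁ (diag2 a) * (xG hF 7 (m * b) * φ₂ (diag2 a')) *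
            (xG hF 11 (m' * b') * torusHom z) := by
        rw [e1, e2, e3, hP, hQ, map_mul φ₁, map_mul φ₂, hm, hm']
        group
      _ = φ₁ (diag2 a) * (φ₂ (diag2 a') * xG hF 7 (m * b)) *
            (torusHom z * xG hF 11 (m' * b')) := by
        rw [← hm b, (hcc _ _).eq, torusHom_conj hF z h11, hz 11 (by simp), Units.val_one, one_mul]
      _ = _ := by
        have e4 : xG hF 7 (m * b) * torusHom z = torusHom z * xG hF 7 (m * b) := by
          rw [torusHom_conj hF z h7, hz 7 (by simp), Units.val_one, one_mul]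
        rw [hd0, map_mul torusHom, map_mul torusHom, hT₁, hT₂]
        simp only [mul_assoc]
        rw [← mul_assoc (xG hF 7 (m * b)), e4, mul_assoc]
  have hu : xG hF 7 (m * b) * xG hF 11 (m' * b') ∈ chevG2.posUnipotent k :=
    Subgroup.mul_mem _ (mem_posUnipotent_of hF h7 h7p _) (mem_posUnipotent_of hF h11 h11p _)
  have hd := torus_eq_one_of_pow p hu d (j := j) (by rw [← hconj, conj_pow, hj]; group)
  rw [hd, map_one, one_mul] at hconj
  have h := congrArg (fun x => x ^ p) hconj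
  simp only [conj_pow, (hcm 7 (by simp) 11 (by simp) _ _).mul_pow, xG_pow_char p, mul_one] at h
  exact conj_eq_one_iff.1 h

/-- The long roots trivial at the semisimple element. -/
theorem pow_eq_one_long [IsAlgClosed k] (htor : ∀ a : kˣ, ∃ n : ℕ, (n : k) ≠ 0 ∧ a ^ n = 1)
    (p : ℕ) [Fact p.Prime] [CharP k p] {c : Fin chevG2.rank → kˣ}
    (hR : ∀ r : Fin chevG2.nroots, chiU c (r : ℕ) = 1 → (r : ℕ) ∈ [0, 1, 5, 6, 10, 11])
    {g : GL chevG2.Idx k} (hg : g ∈ chevG2.group k) (hcomm : torusHom c * g = g * torusHom c)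
    {j : ℕ} (hj : g ^ p ^ j = 1) {i : ℕ} (hi : 3 ≤ p ^ i) : g ^ p ^ i = 1 := by
  have hmem : g ∈ (G2Singer.psi (E := k)).range := by
    refine mem_of_comm htor hg hcomm _ (fun r hr t => ?_)
      (fun d => ⟨_, G2Singer.psi_diagElt d⟩)
    have h := hR r hr
    simp only [List.mem_cons, List.not_mem_nil, or_false] at h
    rcases h with e | e | e | e | e | e <;> rw [e]
    · exact ⟨_, G2Singer.psi_tv0 (by decide) t⟩
    · exact ⟨_, G2Singer.psi_tv1 (by decide) t⟩
    · exact ⟨_, G2Singer.psi_tv5 (by decide) t⟩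
    · exact ⟨_, G2Singer.psi_tv6 (by decide) t⟩
    · exact ⟨_, G2Singer.psi_tv10 (by decide) t⟩
    · exact ⟨_, G2Singer.psi_tv11 (by decide) t⟩
  obtain ⟨X, rfl⟩ := hmem
  rw [← map_pow, ← map_one (G2Singer.psi (E := k))] at hj
  have hX : (X : Matrix (Fin 3) (Fin 3) k) ^ p ^ j = 1 := by
    rw [← Matrix.SpecialLinearGroup.coe_pow, G2Singer.psi_injective hj]; rfl
  have hnil : IsNilpotent ((X : Matrix (Fin 3) (Fin 3) k) - 1) :=
    ⟨p ^ j, by rw [sub_pow_char_pow_of_commute p j (Commute.one_right _), hX, one_pow, sub_self]⟩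
  have h3 : ((X : Matrix (Fin 3) (Fin 3) k) - 1) ^ 3 = 0 := by
    have h := sub_eq_zero.1 (Matrix.isNilpotent_charpoly_sub_pow_of_isNilpotent hnil).eq_zero
    have h2 := Matrix.aeval_self_charpoly ((X : Matrix (Fin 3) (Fin 3) k) - 1)
    rw [h] at h2
    simpa using h2
  have h4 : ((X : Matrix (Fin 3) (Fin 3) k) - 1) ^ p ^ i = 0 := pow_eq_zero_of_le hi h3
  rw [sub_pow_char_pow_of_commute p i (Commute.one_right _), one_pow, sub_eq_zero] at h4
  rw [← map_pow, show X ^ p ^ i = 1 from Subtype.ext (by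
    rw [Matrix.SpecialLinearGroup.coe_pow, h4]; rfl), map_one]

end Cfsg.Agent.G2Spec
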