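import Cfsg.Agent.Chev.G2OddCentralizer
import Cfsg.Agent.Chev.Functorial

/-!
Elements of G2 over the prime fields with prescribed orders.
-/

set_option autoImplicit false
set_option maxRecDepth 100000
set_option maxHeartbeats 2000000

namespace Cfsg.Agent.G2Spec

open Cfsg.Lie Cfsg.Agent.Chev
open scoped MatrixGroups

/-- The indices. -/
def idxList : List chevG2.Idx :=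
  (List.finRange chevG2.rank).map Sum.inl ++ (List.finRange chevG2.nroots).map Sum.inr

/-- A check on all pairs of indices. -/
def allIdx (f : chevG2.Idx → chevG2.Idx → Bool) : Bool :=
  idxList.all fun a => idxList.all fun b => f a b

theorem of_allIdx {p : ℕ} {A B : chevG2.Idx → chevG2.Idx → ZMod p}
    (h : (allIdx fun a b => decide (A a b = B a b)) = true) (a b : chevG2.Idx) :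
    A a b = B a b := by
  have hm : ∀ x : chevG2.Idx, x ∈ idxList := by
    rintro (i | i) <;> simp [idxList]
  exact of_decide_eq_true (List.all_eq_true.1 (List.all_eq_true.1 h a (hm a)) b (hm b))

/-- A table as a matrix. -/
def tabMat (p : ℕ) (L : List (List ℕ)) : Matrix chevG2.Idx chevG2.Idx (ZMod p) :=
  Matrix.of fun a b => (((L.getD (enc chevG2 a) []).getD (enc chevG2 b) 0 : ℕ) : ZMod p)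

/-- Table. -/
def eAx0 : List (List ℕ) :=
  [[1, 0, 0, 0, 0, 0, 1, 0, 0, 0, 0, 0, 0, 0],
   [0, 1, 0, 0, 0, 0, 0, 0, 0, 0, 0, 0, 0, 0],
   [0, 0, 1, 0, 0, 0, 0, 0, 0, 0, 0, 0, 0, 0],
   [0, 0, 0, 1, 0, 0, 0, 0, 0, 0, 0, 0, 0, 0],
   [0, 0, 0, 1, 1, 0, 0, 0, 0, 0, 0, 0, 0, 0],
   [0, 0, 0, 1, 0, 1, 0, 0, 0, 0, 0, 0, 0, 0],
   [0, 0, 0, 0, 0, 0, 1, 0, 0, 0, 0, 0, 0, 0],
   [0, 0, 0, 1, 1, 1, 0, 1, 0, 0, 0, 0, 0, 0],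
   [0, 0, 0, 0, 0, 0, 0, 0, 1, 0, 0, 0, 0, 0],
   [0, 1, 0, 0, 0, 0, 1, 0, 0, 1, 0, 0, 0, 0],
   [0, 0, 0, 0, 0, 0, 0, 0, 1, 0, 1, 0, 0, 0],
   [0, 0, 0, 0, 0, 0, 0, 0, 1, 0, 0, 1, 0, 0],
   [0, 0, 0, 0, 0, 0, 0, 0, 1, 0, 1, 1, 1, 0],
   [0, 0, 0, 0, 0, 0, 0, 0, 0, 0, 0, 0, 0, 1]]

/-- Table. -/
def eAx1 : List (List ℕ) :=
  [[1, 0, 0, 0, 0, 0, 0, 0, 0, 0, 0, 0, 0, 0],
   [0, 1, 0, 0, 0, 0, 0, 1, 0, 0, 0, 0, 0, 0],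
   [0, 0, 1, 0, 0, 0, 0, 0, 0, 0, 0, 0, 0, 0],
   [0, 0, 1, 1, 0, 0, 0, 0, 0, 0, 0, 0, 0, 0],
   [0, 0, 0, 0, 1, 0, 0, 0, 0, 0, 0, 0, 0, 0],
   [0, 0, 0, 0, 0, 1, 0, 0, 0, 0, 0, 0, 0, 0],
   [0, 0, 0, 0, 0, 1, 1, 0, 0, 0, 0, 0, 0, 0],
   [0, 0, 0, 0, 0, 0, 0, 1, 0, 0, 0, 0, 0, 0],
   [1, 0, 0, 0, 0, 0, 0, 1, 1, 0, 0, 0, 0, 0],
   [0, 0, 0, 0, 0, 0, 0, 0, 0, 1, 0, 0, 0, 0],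
   [0, 0, 0, 0, 0, 0, 0, 0, 0, 1, 1, 0, 0, 0],
   [0, 0, 0, 0, 0, 0, 0, 0, 0, 0, 0, 1, 0, 0],
   [0, 0, 0, 0, 0, 0, 0, 0, 0, 0, 0, 0, 1, 0],
   [0, 0, 0, 0, 0, 0, 0, 0, 0, 0, 0, 0, 1, 1]]

/-- Table. -/
def eA1 : List (List ℕ) :=
  [[1, 0, 0, 0, 0, 1, 1, 0, 0, 0, 0, 0, 0, 0],
   [0, 1, 0, 0, 0, 0, 0, 1, 0, 0, 0, 0, 0, 0],
   [0, 0, 1, 0, 0, 0, 0, 0, 0, 0, 0, 0, 0, 0],
   [0, 0, 1, 1, 0, 0, 0, 0, 0, 0, 0, 0, 0, 0],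
   [0, 0, 1, 1, 1, 0, 0, 0, 0, 0, 0, 0, 0, 0],
   [0, 0, 1, 1, 0, 1, 0, 0, 0, 0, 0, 0, 0, 0],
   [0, 0, 0, 0, 0, 1, 1, 0, 0, 0, 0, 0, 0, 0],
   [0, 0, 1, 1, 1, 1, 0, 1, 0, 0, 0, 0, 0, 0],
   [1, 0, 0, 0, 0, 0, 0, 1, 1, 0, 0, 0, 0, 0],
   [0, 1, 0, 0, 0, 1, 1, 1, 0, 1, 0, 0, 0, 0],
   [1, 0, 0, 0, 0, 0, 0, 1, 1, 1, 1, 0, 0, 0],
   [1, 0, 0, 0, 0, 0, 0, 1, 1, 0, 0, 1, 0, 0],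
   [1, 0, 0, 0, 0, 0, 0, 1, 1, 1, 1, 1, 1, 0],
   [0, 0, 0, 0, 0, 0, 0, 0, 0, 0, 0, 0, 1, 1]]

/-- Table. -/
def eA2 : List (List ℕ) :=
  [[1, 0, 1, 1, 0, 1, 0, 0, 0, 0, 0, 0, 0, 0],
   [0, 1, 1, 1, 1, 1, 0, 0, 0, 0, 0, 0, 0, 0],
   [0, 0, 1, 0, 0, 0, 0, 0, 0, 0, 0, 0, 0, 0],
   [0, 0, 0, 1, 0, 0, 0, 0, 0, 0, 0, 0, 0, 0],
   [0, 0, 1, 0, 1, 0, 0, 0, 0, 0, 0, 0, 0, 0],
   [0, 0, 1, 0, 0, 1, 0, 0, 0, 0, 0, 0, 0, 0],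
   [0, 0, 1, 1, 0, 0, 1, 0, 0, 0, 0, 0, 0, 0],
   [0, 0, 1, 0, 0, 0, 0, 1, 0, 0, 0, 0, 0, 0],
   [0, 0, 1, 1, 1, 0, 1, 0, 1, 0, 0, 0, 0, 0],
   [0, 0, 0, 0, 1, 0, 0, 1, 0, 1, 0, 0, 0, 0],
   [1, 1, 1, 1, 1, 1, 0, 0, 0, 0, 1, 0, 0, 0],
   [1, 0, 1, 1, 1, 0, 1, 1, 0, 0, 0, 1, 0, 0],
   [1, 1, 1, 1, 1, 1, 0, 0, 0, 1, 0, 0, 1, 0],
   [1, 0, 0, 0, 0, 0, 0, 1, 1, 1, 1, 1, 0, 1]]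

/-- Table. -/
def eA4 : List (List ℕ) :=
  [[1, 0, 1, 0, 0, 0, 0, 0, 0, 0, 0, 0, 0, 0],
   [0, 1, 0, 0, 0, 0, 0, 0, 0, 0, 0, 0, 0, 0],
   [0, 0, 1, 0, 0, 0, 0, 0, 0, 0, 0, 0, 0, 0],
   [0, 0, 0, 1, 0, 0, 0, 0, 0, 0, 0, 0, 0, 0],
   [0, 0, 0, 0, 1, 0, 0, 0, 0, 0, 0, 0, 0, 0],
   [0, 0, 0, 0, 0, 1, 0, 0, 0, 0, 0, 0, 0, 0],
   [0, 0, 0, 0, 0, 0, 1, 0, 0, 0, 0, 0, 0, 0],
   [0, 0, 0, 0, 0, 0, 0, 1, 0, 0, 0, 0, 0, 0],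
   [0, 0, 0, 1, 0, 0, 0, 0, 1, 0, 0, 0, 0, 0],
   [0, 0, 0, 0, 0, 0, 0, 0, 0, 1, 0, 0, 0, 0],
   [0, 0, 0, 0, 1, 0, 0, 0, 0, 0, 1, 0, 0, 0],
   [0, 0, 0, 0, 0, 1, 0, 0, 0, 0, 0, 1, 0, 0],
   [0, 0, 0, 0, 0, 0, 0, 1, 0, 0, 0, 0, 1, 0],
   [0, 1, 1, 0, 0, 0, 0, 0, 0, 0, 0, 0, 0, 1]]

/-- Table. -/
def eA8 : List (List ℕ) :=
  [[1, 0, 0, 0, 0, 0, 0, 0, 0, 0, 0, 0, 0, 0],
   [0, 1, 0, 0, 0, 0, 0, 0, 0, 0, 0, 0, 0, 0],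
   [0, 0, 1, 0, 0, 0, 0, 0, 0, 0, 0, 0, 0, 0],
   [0, 0, 0, 1, 0, 0, 0, 0, 0, 0, 0, 0, 0, 0],
   [0, 0, 0, 0, 1, 0, 0, 0, 0, 0, 0, 0, 0, 0],
   [0, 0, 0, 0, 0, 1, 0, 0, 0, 0, 0, 0, 0, 0],
   [0, 0, 0, 0, 0, 0, 1, 0, 0, 0, 0, 0, 0, 0],
   [0, 0, 0, 0, 0, 0, 0, 1, 0, 0, 0, 0, 0, 0],
   [0, 0, 0, 0, 0, 0, 0, 0, 1, 0, 0, 0, 0, 0],
   [0, 0, 0, 0, 0, 0, 0, 0, 0, 1, 0, 0, 0, 0],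
   [0, 0, 0, 0, 0, 0, 0, 0, 0, 0, 1, 0, 0, 0],
   [0, 0, 0, 0, 0, 0, 0, 0, 0, 0, 0, 1, 0, 0],
   [0, 0, 0, 0, 0, 0, 0, 0, 0, 0, 0, 0, 1, 0],
   [0, 0, 0, 0, 0, 0, 0, 0, 0, 0, 0, 0, 0, 1]]

theorem eAx0_entry : ∀ a b : chevG2.Idx, tabMat 2 eAx0 a b =
    (if a = b then 1 else 0) + colVal (1 : ZMod 2) (enc chevG2 a) (colOf chevG2 g2Cert.T 7 (enc chevG2 b)) := by
  exact of_allIdx (by decide +kernel)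

theorem eAx0_eq [Fact (Nat.Prime 2)] :
    tabMat 2 eAx0 = chevG2.x (ZMod 2) 7 1 :=
  Matrix.ext fun a b => by
    rw [x_apply g2_checks.tab (ZMod 2) (show 7 < chevG2.nroots by decide +kernel)]
    exact eAx0_entry a b

theorem eAx1_entry : ∀ a b : chevG2.Idx, tabMat 2 eAx1 a b =
    (if a = b then 1 else 0) + colVal (1 : ZMod 2) (enc chevG2 a) (colOf chevG2 g2Cert.T 6 (enc chevG2 b)) := by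
  exact of_allIdx (by decide +kernel)

theorem eAx1_eq [Fact (Nat.Prime 2)] :
    tabMat 2 eAx1 = chevG2.x (ZMod 2) 6 1 :=
  Matrix.ext fun a b => by
    rw [x_apply g2_checks.tab (ZMod 2) (show 6 < chevG2.nroots by decide +kernel)]
    exact eAx1_entry a b

theorem eA1_entry : ∀ a b : chevG2.Idx, ((tabMat 2 eAx0) * tabMat 2 eAx1) a b = tabMat 2 eA1 a b := by
  exact of_allIdx (by decide +kernel)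

theorem eA2_entry : ∀ a b : chevG2.Idx, (tabMat 2 eA1 * tabMat 2 eA1) a b = tabMat 2 eA2 a b := by
  exact of_allIdx (by decide +kernel)

theorem eA4_entry : ∀ a b : chevG2.Idx, (tabMat 2 eA2 * tabMat 2 eA2) a b = tabMat 2 eA4 a b := by
  exact of_allIdx (by decide +kernel)

theorem eA8_entry : ∀ a b : chevG2.Idx, (tabMat 2 eA4 * tabMat 2 eA4) a b = tabMat 2 eA8 a b := by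
  exact of_allIdx (by decide +kernel)

theorem eA8_one : ∀ a b : chevG2.Idx, tabMat 2 eA8 a b = if a = b then 1 else 0 := by
  exact of_allIdx (by decide +kernel)

theorem eA4_ne : ¬ ∀ a b : chevG2.Idx, tabMat 2 eA4 a b = if a = b then 1 else 0 := fun h =>
  absurd (h (Sum.inl ⟨0, by decide +kernel⟩ : chevG2.Idx) (Sum.inr ⟨0, by decide +kernel⟩ : chevG2.Idx)) (by decide +kernel)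

theorem exists_order_8_p2 [Fact (Nat.Prime 2)] : ∃ g ∈ chevG2.group (ZMod 2), g ^ 8 = 1 ∧ g ^ 4 ≠ (1 : GL chevG2.Idx (ZMod 2)) := by
  refine ⟨xG facts_chevG2 7 (1 : ZMod 2) * xG facts_chevG2 6 (1 : ZMod 2), Subgroup.mul_mem _ (xG_mem_group _ 7 _) (xG_mem_group _ 6 _), ?_⟩
  set g : GL chevG2.Idx (ZMod 2) := xG facts_chevG2 7 (1 : ZMod 2) * xG facts_chevG2 6 (1 : ZMod 2) with hg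
  have h1 : (g : Matrix chevG2.Idx chevG2.Idx (ZMod 2)) = tabMat 2 eA1 := by
    rw [hg]; simp only [Units.val_mul, xG_val, ← eAx0_eq, ← eAx1_eq]
    exact Matrix.ext eA1_entry
  have h2 : ((g ^ 2 : GL chevG2.Idx (ZMod 2)) : Matrix chevG2.Idx chevG2.Idx (ZMod 2)) = tabMat 2 eA2 := by
    rw [show g ^ 2 = g * (g) from (by simp only [← pow_succ, ← pow_succ', ← sq]), Units.val_mul, h1]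
    exact Matrix.ext eA2_entry
  have h4 : ((g ^ 4 : GL chevG2.Idx (ZMod 2)) : Matrix chevG2.Idx chevG2.Idx (ZMod 2)) = tabMat 2 eA4 := by
    rw [show g ^ 4 = g ^ 2 * (g ^ 2) from (pow_add g 2 2), Units.val_mul, h2]
    exact Matrix.ext eA4_entry
  have h8 : ((g ^ 8 : GL chevG2.Idx (ZMod 2)) : Matrix chevG2.Idx chevG2.Idx (ZMod 2)) = tabMat 2 eA8 := by
    rw [show g ^ 8 = g ^ 4 * (g ^ 4) from (pow_add g 4 4), Units.val_mul, h4]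
    exact Matrix.ext eA8_entry
  refine ⟨Units.ext (Matrix.ext fun a b => by rw [h8, eA8_one, Units.val_one, Matrix.one_apply]), ?_⟩
  · exact fun e => eA4_ne fun a b => by
      rw [← h4, e, Units.val_one, Matrix.one_apply]

/-- Table. -/
def eBx0 : List (List ℕ) :=
  [[1, 0, 0, 0, 0, 0, 1, 0, 0, 0, 0, 0, 0, 0],
   [0, 1, 0, 0, 0, 0, 0, 0, 0, 0, 0, 0, 0, 0],
   [0, 0, 1, 0, 0, 0, 0, 0, 0, 0, 0, 0, 0, 0],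
   [0, 0, 0, 1, 0, 0, 0, 0, 0, 0, 0, 0, 0, 0],
   [0, 0, 0, 2, 1, 0, 0, 0, 0, 0, 0, 0, 0, 0],
   [0, 0, 0, 2, 2, 1, 0, 0, 0, 0, 0, 0, 0, 0],
   [0, 0, 0, 0, 0, 0, 1, 0, 0, 0, 0, 0, 0, 0],
   [0, 0, 0, 2, 0, 0, 0, 1, 0, 0, 0, 0, 0, 0],
   [0, 0, 0, 0, 0, 0, 0, 0, 1, 0, 0, 0, 0, 0],
   [1, 1, 0, 0, 0, 0, 2, 0, 0, 1, 0, 0, 0, 0],
   [0, 0, 0, 0, 0, 0, 0, 0, 2, 0, 1, 0, 0, 0],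
   [0, 0, 0, 0, 0, 0, 0, 0, 1, 0, 1, 1, 0, 0],
   [0, 0, 0, 0, 0, 0, 0, 0, 1, 0, 0, 0, 1, 0],
   [0, 0, 0, 0, 0, 0, 0, 0, 0, 0, 0, 0, 0, 1]]

/-- Table. -/
def eBx1 : List (List ℕ) :=
  [[1, 0, 0, 0, 0, 0, 0, 0, 0, 0, 0, 0, 0, 0],
   [0, 1, 0, 0, 0, 0, 0, 1, 0, 0, 0, 0, 0, 0],
   [0, 0, 1, 0, 0, 0, 0, 0, 0, 0, 0, 0, 0, 0],
   [0, 0, 2, 1, 0, 0, 0, 0, 0, 0, 0, 0, 0, 0],
   [0, 0, 0, 0, 1, 0, 0, 0, 0, 0, 0, 0, 0, 0],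
   [0, 0, 0, 0, 0, 1, 0, 0, 0, 0, 0, 0, 0, 0],
   [0, 0, 0, 0, 0, 2, 1, 0, 0, 0, 0, 0, 0, 0],
   [0, 0, 0, 0, 0, 0, 0, 1, 0, 0, 0, 0, 0, 0],
   [0, 1, 0, 0, 0, 0, 0, 2, 1, 0, 0, 0, 0, 0],
   [0, 0, 0, 0, 0, 0, 0, 0, 0, 1, 0, 0, 0, 0],
   [0, 0, 0, 0, 0, 0, 0, 0, 0, 1, 1, 0, 0, 0],
   [0, 0, 0, 0, 0, 0, 0, 0, 0, 0, 0, 1, 0, 0],
   [0, 0, 0, 0, 0, 0, 0, 0, 0, 0, 0, 0, 1, 0],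
   [0, 0, 0, 0, 0, 0, 0, 0, 0, 0, 0, 0, 1, 1]]

/-- Table. -/
def eB1 : List (List ℕ) :=
  [[1, 0, 0, 0, 0, 2, 1, 0, 0, 0, 0, 0, 0, 0],
   [0, 1, 0, 0, 0, 0, 0, 1, 0, 0, 0, 0, 0, 0],
   [0, 0, 1, 0, 0, 0, 0, 0, 0, 0, 0, 0, 0, 0],
   [0, 0, 2, 1, 0, 0, 0, 0, 0, 0, 0, 0, 0, 0],
   [0, 0, 1, 2, 1, 0, 0, 0, 0, 0, 0, 0, 0, 0],
   [0, 0, 1, 2, 2, 1, 0, 0, 0, 0, 0, 0, 0, 0],
   [0, 0, 0, 0, 0, 2, 1, 0, 0, 0, 0, 0, 0, 0],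
   [0, 0, 1, 2, 0, 0, 0, 1, 0, 0, 0, 0, 0, 0],
   [0, 1, 0, 0, 0, 0, 0, 2, 1, 0, 0, 0, 0, 0],
   [1, 1, 0, 0, 0, 1, 2, 1, 0, 1, 0, 0, 0, 0],
   [0, 2, 0, 0, 0, 0, 0, 1, 2, 1, 1, 0, 0, 0],
   [0, 1, 0, 0, 0, 0, 0, 2, 1, 1, 1, 1, 0, 0],
   [0, 1, 0, 0, 0, 0, 0, 2, 1, 0, 0, 0, 1, 0],
   [0, 0, 0, 0, 0, 0, 0, 0, 0, 0, 0, 0, 1, 1]]

/-- Table. -/
def eB2 : List (List ℕ) :=
  [[1, 0, 2, 1, 1, 0, 2, 0, 0, 0, 0, 0, 0, 0],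
   [0, 1, 1, 2, 0, 0, 0, 2, 0, 0, 0, 0, 0, 0],
   [0, 0, 1, 0, 0, 0, 0, 0, 0, 0, 0, 0, 0, 0],
   [0, 0, 1, 1, 0, 0, 0, 0, 0, 0, 0, 0, 0, 0],
   [0, 0, 0, 1, 1, 0, 0, 0, 0, 0, 0, 0, 0, 0],
   [0, 0, 2, 2, 1, 1, 0, 0, 0, 0, 0, 0, 0, 0],
   [0, 0, 2, 1, 1, 1, 1, 0, 0, 0, 0, 0, 0, 0],
   [0, 0, 0, 1, 0, 0, 0, 1, 0, 0, 0, 0, 0, 0],
   [0, 2, 2, 1, 0, 0, 0, 2, 1, 0, 0, 0, 0, 0],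
   [2, 2, 2, 1, 2, 2, 2, 0, 0, 1, 0, 0, 0, 0],
   [1, 1, 1, 2, 0, 1, 2, 0, 1, 2, 1, 0, 0, 0],
   [1, 0, 2, 1, 0, 1, 2, 0, 1, 0, 2, 1, 0, 0],
   [0, 0, 2, 1, 0, 0, 0, 1, 2, 0, 0, 0, 1, 0],
   [0, 1, 0, 0, 0, 0, 0, 2, 1, 0, 0, 0, 2, 1]]

/-- Table. -/
def eB3 : List (List ℕ) :=
  [[1, 0, 2, 0, 1, 0, 0, 0, 0, 0, 0, 0, 0, 0],
   [0, 1, 1, 0, 0, 0, 0, 0, 0, 0, 0, 0, 0, 0],
   [0, 0, 1, 0, 0, 0, 0, 0, 0, 0, 0, 0, 0, 0],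
   [0, 0, 0, 1, 0, 0, 0, 0, 0, 0, 0, 0, 0, 0],
   [0, 0, 0, 0, 1, 0, 0, 0, 0, 0, 0, 0, 0, 0],
   [0, 0, 2, 0, 0, 1, 0, 0, 0, 0, 0, 0, 0, 0],
   [0, 0, 0, 2, 0, 0, 1, 0, 0, 0, 0, 0, 0, 0],
   [0, 0, 0, 0, 0, 0, 0, 1, 0, 0, 0, 0, 0, 0],
   [0, 0, 0, 2, 0, 0, 0, 0, 1, 0, 0, 0, 0, 0],
   [0, 0, 2, 0, 0, 2, 0, 0, 0, 1, 0, 0, 0, 0],
   [0, 0, 0, 1, 2, 0, 1, 0, 0, 0, 1, 0, 0, 0],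
   [1, 0, 2, 0, 2, 1, 0, 0, 0, 0, 0, 1, 0, 0],
   [0, 0, 2, 0, 0, 0, 0, 1, 0, 0, 0, 0, 1, 0],
   [0, 1, 2, 1, 0, 0, 0, 0, 0, 0, 0, 0, 0, 1]]

/-- Table. -/
def eB6 : List (List ℕ) :=
  [[1, 0, 1, 0, 2, 0, 0, 0, 0, 0, 0, 0, 0, 0],
   [0, 1, 2, 0, 0, 0, 0, 0, 0, 0, 0, 0, 0, 0],
   [0, 0, 1, 0, 0, 0, 0, 0, 0, 0, 0, 0, 0, 0],
   [0, 0, 0, 1, 0, 0, 0, 0, 0, 0, 0, 0, 0, 0],
   [0, 0, 0, 0, 1, 0, 0, 0, 0, 0, 0, 0, 0, 0],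
   [0, 0, 1, 0, 0, 1, 0, 0, 0, 0, 0, 0, 0, 0],
   [0, 0, 0, 1, 0, 0, 1, 0, 0, 0, 0, 0, 0, 0],
   [0, 0, 0, 0, 0, 0, 0, 1, 0, 0, 0, 0, 0, 0],
   [0, 0, 0, 1, 0, 0, 0, 0, 1, 0, 0, 0, 0, 0],
   [0, 0, 2, 0, 0, 1, 0, 0, 0, 1, 0, 0, 0, 0],
   [0, 0, 0, 1, 1, 0, 2, 0, 0, 0, 1, 0, 0, 0],
   [2, 0, 2, 0, 2, 2, 0, 0, 0, 0, 0, 1, 0, 0],
   [0, 0, 1, 0, 0, 0, 0, 2, 0, 0, 0, 0, 1, 0],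
   [0, 2, 2, 2, 0, 0, 0, 0, 0, 0, 0, 0, 0, 1]]

/-- Table. -/
def eB9 : List (List ℕ) :=
  [[1, 0, 0, 0, 0, 0, 0, 0, 0, 0, 0, 0, 0, 0],
   [0, 1, 0, 0, 0, 0, 0, 0, 0, 0, 0, 0, 0, 0],
   [0, 0, 1, 0, 0, 0, 0, 0, 0, 0, 0, 0, 0, 0],
   [0, 0, 0, 1, 0, 0, 0, 0, 0, 0, 0, 0, 0, 0],
   [0, 0, 0, 0, 1, 0, 0, 0, 0, 0, 0, 0, 0, 0],
   [0, 0, 0, 0, 0, 1, 0, 0, 0, 0, 0, 0, 0, 0],
   [0, 0, 0, 0, 0, 0, 1, 0, 0, 0, 0, 0, 0, 0],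
   [0, 0, 0, 0, 0, 0, 0, 1, 0, 0, 0, 0, 0, 0],
   [0, 0, 0, 0, 0, 0, 0, 0, 1, 0, 0, 0, 0, 0],
   [0, 0, 0, 0, 0, 0, 0, 0, 0, 1, 0, 0, 0, 0],
   [0, 0, 0, 0, 0, 0, 0, 0, 0, 0, 1, 0, 0, 0],
   [0, 0, 0, 0, 0, 0, 0, 0, 0, 0, 0, 1, 0, 0],
   [0, 0, 0, 0, 0, 0, 0, 0, 0, 0, 0, 0, 1, 0],
   [0, 0, 0, 0, 0, 0, 0, 0, 0, 0, 0, 0, 0, 1]]

theorem eBx0_entry : ∀ a b : chevG2.Idx, tabMat 3 eBx0 a b =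
    (if a = b then 1 else 0) + colVal (1 : ZMod 3) (enc chevG2 a) (colOf chevG2 g2Cert.T 7 (enc chevG2 b)) := by
  exact of_allIdx (by decide +kernel)

theorem eBx0_eq [Fact (Nat.Prime 3)] :
    tabMat 3 eBx0 = chevG2.x (ZMod 3) 7 1 :=
  Matrix.ext fun a b => by
    rw [x_apply g2_checks.tab (ZMod 3) (show 7 < chevG2.nroots by decide +kernel)]
    exact eBx0_entry a b

theorem eBx1_entry : ∀ a b : chevG2.Idx, tabMat 3 eBx1 a b =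
    (if a = b then 1 else 0) + colVal (1 : ZMod 3) (enc chevG2 a) (colOf chevG2 g2Cert.T 6 (enc chevG2 b)) := by
  exact of_allIdx (by decide +kernel)

theorem eBx1_eq [Fact (Nat.Prime 3)] :
    tabMat 3 eBx1 = chevG2.x (ZMod 3) 6 1 :=
  Matrix.ext fun a b => by
    rw [x_apply g2_checks.tab (ZMod 3) (show 6 < chevG2.nroots by decide +kernel)]
    exact eBx1_entry a b

theorem eB1_entry : ∀ a b : chevG2.Idx, ((tabMat 3 eBx0) * tabMat 3 eBx1) a b = tabMat 3 eB1 a b := by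
  exact of_allIdx (by decide +kernel)

theorem eB2_entry : ∀ a b : chevG2.Idx, (tabMat 3 eB1 * tabMat 3 eB1) a b = tabMat 3 eB2 a b := by
  exact of_allIdx (by decide +kernel)

theorem eB3_entry : ∀ a b : chevG2.Idx, (tabMat 3 eB2 * tabMat 3 eB1) a b = tabMat 3 eB3 a b := by
  exact of_allIdx (by decide +kernel)

theorem eB6_entry : ∀ a b : chevG2.Idx, (tabMat 3 eB3 * tabMat 3 eB3) a b = tabMat 3 eB6 a b := by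
  exact of_allIdx (by decide +kernel)

theorem eB9_entry : ∀ a b : chevG2.Idx, (tabMat 3 eB6 * tabMat 3 eB3) a b = tabMat 3 eB9 a b := by
  exact of_allIdx (by decide +kernel)

theorem eB9_one : ∀ a b : chevG2.Idx, tabMat 3 eB9 a b = if a = b then 1 else 0 := by
  exact of_allIdx (by decide +kernel)

theorem eB3_ne : ¬ ∀ a b : chevG2.Idx, tabMat 3 eB3 a b = if a = b then 1 else 0 := fun h =>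
  absurd (h (Sum.inl ⟨0, by decide +kernel⟩ : chevG2.Idx) (Sum.inr ⟨0, by decide +kernel⟩ : chevG2.Idx)) (by decide +kernel)

theorem exists_order_9_p3 [Fact (Nat.Prime 3)] : ∃ g ∈ chevG2.group (ZMod 3), g ^ 9 = 1 ∧ g ^ 3 ≠ (1 : GL chevG2.Idx (ZMod 3)) := by
  refine ⟨xG facts_chevG2 7 (1 : ZMod 3) * xG facts_chevG2 6 (1 : ZMod 3), Subgroup.mul_mem _ (xG_mem_group _ 7 _) (xG_mem_group _ 6 _), ?_⟩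
  set g : GL chevG2.Idx (ZMod 3) := xG facts_chevG2 7 (1 : ZMod 3) * xG facts_chevG2 6 (1 : ZMod 3) with hg
  have h1 : (g : Matrix chevG2.Idx chevG2.Idx (ZMod 3)) = tabMat 3 eB1 := by
    rw [hg]; simp only [Units.val_mul, xG_val, ← eBx0_eq, ← eBx1_eq]
    exact Matrix.ext eB1_entry
  have h2 : ((g ^ 2 : GL chevG2.Idx (ZMod 3)) : Matrix chevG2.Idx chevG2.Idx (ZMod 3)) = tabMat 3 eB2 := by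
    rw [show g ^ 2 = g * (g) from (by simp only [← pow_succ, ← pow_succ', ← sq]), Units.val_mul, h1]
    exact Matrix.ext eB2_entry
  have h3 : ((g ^ 3 : GL chevG2.Idx (ZMod 3)) : Matrix chevG2.Idx chevG2.Idx (ZMod 3)) = tabMat 3 eB3 := by
    rw [show g ^ 3 = g ^ 2 * (g) from (by simp only [← pow_succ, ← pow_succ', ← sq]), Units.val_mul, h2, h1]
    exact Matrix.ext eB3_entry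
  have h6 : ((g ^ 6 : GL chevG2.Idx (ZMod 3)) : Matrix chevG2.Idx chevG2.Idx (ZMod 3)) = tabMat 3 eB6 := by
    rw [show g ^ 6 = g ^ 3 * (g ^ 3) from (pow_add g 3 3), Units.val_mul, h3]
    exact Matrix.ext eB6_entry
  have h9 : ((g ^ 9 : GL chevG2.Idx (ZMod 3)) : Matrix chevG2.Idx chevG2.Idx (ZMod 3)) = tabMat 3 eB9 := by
    rw [show g ^ 9 = g ^ 6 * (g ^ 3) from (pow_add g 6 3), Units.val_mul, h6, h3]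
    exact Matrix.ext eB9_entry
  refine ⟨Units.ext (Matrix.ext fun a b => by rw [h9, eB9_one, Units.val_one, Matrix.one_apply]), ?_⟩
  · exact fun e => eB3_ne fun a b => by
      rw [← h3, e, Units.val_one, Matrix.one_apply]

/-- Table. -/
def eCx0 : List (List ℕ) :=
  [[1, 0, 0, 0, 0, 0, 1, 0, 0, 0, 0, 0, 0, 0],
   [0, 1, 0, 0, 0, 0, 0, 0, 0, 0, 0, 0, 0, 0],
   [0, 0, 1, 0, 0, 0, 0, 0, 0, 0, 0, 0, 0, 0],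
   [0, 0, 0, 1, 0, 0, 0, 0, 0, 0, 0, 0, 0, 0],
   [0, 0, 0, 4, 1, 0, 0, 0, 0, 0, 0, 0, 0, 0],
   [0, 0, 0, 4, 2, 1, 0, 0, 0, 0, 0, 0, 0, 0],
   [0, 0, 0, 0, 0, 0, 1, 0, 0, 0, 0, 0, 0, 0],
   [0, 0, 0, 4, 3, 3, 0, 1, 0, 0, 0, 0, 0, 0],
   [0, 0, 0, 0, 0, 0, 0, 0, 1, 0, 0, 0, 0, 0],
   [3, 1, 0, 0, 0, 0, 4, 0, 0, 1, 0, 0, 0, 0],
   [0, 0, 0, 0, 0, 0, 0, 0, 4, 0, 1, 0, 0, 0],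
   [0, 0, 0, 0, 0, 0, 0, 0, 1, 0, 3, 1, 0, 0],
   [0, 0, 0, 0, 0, 0, 0, 0, 1, 0, 2, 3, 1, 0],
   [0, 0, 0, 0, 0, 0, 0, 0, 0, 0, 0, 0, 0, 1]]

/-- Table. -/
def eCx1 : List (List ℕ) :=
  [[1, 0, 0, 0, 0, 0, 0, 0, 0, 0, 0, 0, 0, 0],
   [0, 1, 0, 0, 0, 0, 0, 1, 0, 0, 0, 0, 0, 0],
   [0, 0, 1, 0, 0, 0, 0, 0, 0, 0, 0, 0, 0, 0],
   [0, 0, 4, 1, 0, 0, 0, 0, 0, 0, 0, 0, 0, 0],
   [0, 0, 0, 0, 1, 0, 0, 0, 0, 0, 0, 0, 0, 0],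
   [0, 0, 0, 0, 0, 1, 0, 0, 0, 0, 0, 0, 0, 0],
   [0, 0, 0, 0, 0, 4, 1, 0, 0, 0, 0, 0, 0, 0],
   [0, 0, 0, 0, 0, 0, 0, 1, 0, 0, 0, 0, 0, 0],
   [3, 3, 0, 0, 0, 0, 0, 4, 1, 0, 0, 0, 0, 0],
   [0, 0, 0, 0, 0, 0, 0, 0, 0, 1, 0, 0, 0, 0],
   [0, 0, 0, 0, 0, 0, 0, 0, 0, 1, 1, 0, 0, 0],
   [0, 0, 0, 0, 0, 0, 0, 0, 0, 0, 0, 1, 0, 0],
   [0, 0, 0, 0, 0, 0, 0, 0, 0, 0, 0, 0, 1, 0],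
   [0, 0, 0, 0, 0, 0, 0, 0, 0, 0, 0, 0, 1, 1]]

/-- Table. -/
def eC1 : List (List ℕ) :=
  [[1, 0, 0, 0, 0, 4, 1, 0, 0, 0, 0, 0, 0, 0],
   [0, 1, 0, 0, 0, 0, 0, 1, 0, 0, 0, 0, 0, 0],
   [0, 0, 1, 0, 0, 0, 0, 0, 0, 0, 0, 0, 0, 0],
   [0, 0, 4, 1, 0, 0, 0, 0, 0, 0, 0, 0, 0, 0],
   [0, 0, 1, 4, 1, 0, 0, 0, 0, 0, 0, 0, 0, 0],
   [0, 0, 1, 4, 2, 1, 0, 0, 0, 0, 0, 0, 0, 0],
   [0, 0, 0, 0, 0, 4, 1, 0, 0, 0, 0, 0, 0, 0],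
   [0, 0, 1, 4, 3, 3, 0, 1, 0, 0, 0, 0, 0, 0],
   [3, 3, 0, 0, 0, 0, 0, 4, 1, 0, 0, 0, 0, 0],
   [3, 1, 0, 0, 0, 1, 4, 1, 0, 1, 0, 0, 0, 0],
   [2, 2, 0, 0, 0, 0, 0, 1, 4, 1, 1, 0, 0, 0],
   [3, 3, 0, 0, 0, 0, 0, 4, 1, 3, 3, 1, 0, 0],
   [3, 3, 0, 0, 0, 0, 0, 4, 1, 2, 2, 3, 1, 0],
   [0, 0, 0, 0, 0, 0, 0, 0, 0, 0, 0, 0, 1, 1]]

/-- Table. -/
def eC2 : List (List ℕ) :=
  [[1, 0, 4, 1, 3, 2, 2, 0, 0, 0, 0, 0, 0, 0],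
   [0, 1, 1, 4, 3, 3, 0, 2, 0, 0, 0, 0, 0, 0],
   [0, 0, 1, 0, 0, 0, 0, 0, 0, 0, 0, 0, 0, 0],
   [0, 0, 3, 1, 0, 0, 0, 0, 0, 0, 0, 0, 0, 0],
   [0, 0, 3, 3, 1, 0, 0, 0, 0, 0, 0, 0, 0, 0],
   [0, 0, 0, 1, 4, 1, 0, 0, 0, 0, 0, 0, 0, 0],
   [0, 0, 4, 1, 3, 3, 1, 0, 0, 0, 0, 0, 0, 0],
   [0, 0, 4, 2, 2, 1, 0, 1, 0, 0, 0, 0, 0, 0],
   [1, 1, 4, 1, 2, 4, 3, 1, 1, 0, 0, 0, 0, 0],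
   [1, 2, 2, 3, 0, 3, 1, 3, 0, 1, 0, 0, 0, 0],
   [4, 2, 1, 4, 3, 2, 1, 1, 3, 2, 1, 0, 0, 0],
   [4, 3, 4, 1, 2, 2, 0, 1, 4, 4, 1, 1, 0, 0],
   [3, 4, 4, 1, 2, 1, 1, 1, 3, 0, 3, 1, 1, 0],
   [3, 3, 0, 0, 0, 0, 0, 4, 1, 2, 2, 3, 2, 1]]

/-- Table. -/
def eC4 : List (List ℕ) :=
  [[1, 0, 3, 0, 0, 0, 4, 0, 0, 0, 0, 0, 0, 0],
   [0, 1, 1, 4, 2, 3, 0, 4, 0, 0, 0, 0, 0, 0],
   [0, 0, 1, 0, 0, 0, 0, 0, 0, 0, 0, 0, 0, 0],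
   [0, 0, 1, 1, 0, 0, 0, 0, 0, 0, 0, 0, 0, 0],
   [0, 0, 0, 1, 1, 0, 0, 0, 0, 0, 0, 0, 0, 0],
   [0, 0, 0, 4, 3, 1, 0, 0, 0, 0, 0, 0, 0, 0],
   [0, 0, 0, 4, 3, 1, 1, 0, 0, 0, 0, 0, 0, 0],
   [0, 0, 0, 1, 3, 2, 0, 1, 0, 0, 0, 0, 0, 0],
   [2, 2, 3, 2, 2, 3, 3, 4, 1, 0, 0, 0, 0, 0],
   [2, 4, 0, 0, 0, 0, 4, 0, 0, 1, 0, 0, 0, 0],
   [3, 1, 0, 3, 3, 0, 1, 0, 1, 4, 1, 0, 0, 0],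
   [0, 0, 0, 3, 1, 2, 0, 0, 1, 0, 2, 1, 0, 0],
   [0, 0, 0, 2, 1, 4, 0, 2, 4, 0, 2, 2, 1, 0],
   [0, 2, 1, 3, 4, 1, 0, 3, 1, 0, 3, 3, 4, 1]]

/-- Table. -/
def eC5 : List (List ℕ) :=
  [[1, 0, 3, 0, 0, 0, 0, 0, 0, 0, 0, 0, 0, 0],
   [0, 1, 1, 0, 0, 0, 0, 0, 0, 0, 0, 0, 0, 0],
   [0, 0, 1, 0, 0, 0, 0, 0, 0, 0, 0, 0, 0, 0],
   [0, 0, 0, 1, 0, 0, 0, 0, 0, 0, 0, 0, 0, 0],
   [0, 0, 0, 0, 1, 0, 0, 0, 0, 0, 0, 0, 0, 0],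
   [0, 0, 0, 0, 0, 1, 0, 0, 0, 0, 0, 0, 0, 0],
   [0, 0, 0, 0, 0, 0, 1, 0, 0, 0, 0, 0, 0, 0],
   [0, 0, 0, 0, 0, 0, 0, 1, 0, 0, 0, 0, 0, 0],
   [0, 0, 0, 3, 0, 0, 0, 0, 1, 0, 0, 0, 0, 0],
   [0, 0, 0, 0, 0, 0, 0, 0, 0, 1, 0, 0, 0, 0],
   [0, 0, 0, 0, 3, 0, 0, 0, 0, 0, 1, 0, 0, 0],
   [0, 0, 0, 0, 0, 2, 0, 0, 0, 0, 0, 1, 0, 0],
   [0, 0, 0, 0, 0, 0, 0, 2, 0, 0, 0, 0, 1, 0],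
   [0, 2, 1, 0, 0, 0, 0, 0, 0, 0, 0, 0, 0, 1]]

/-- Table. -/
def eC10 : List (List ℕ) :=
  [[1, 0, 1, 0, 0, 0, 0, 0, 0, 0, 0, 0, 0, 0],
   [0, 1, 2, 0, 0, 0, 0, 0, 0, 0, 0, 0, 0, 0],
   [0, 0, 1, 0, 0, 0, 0, 0, 0, 0, 0, 0, 0, 0],
   [0, 0, 0, 1, 0, 0, 0, 0, 0, 0, 0, 0, 0, 0],
   [0, 0, 0, 0, 1, 0, 0, 0, 0, 0, 0, 0, 0, 0],
   [0, 0, 0, 0, 0, 1, 0, 0, 0, 0, 0, 0, 0, 0],
   [0, 0, 0, 0, 0, 0, 1, 0, 0, 0, 0, 0, 0, 0],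
   [0, 0, 0, 0, 0, 0, 0, 1, 0, 0, 0, 0, 0, 0],
   [0, 0, 0, 1, 0, 0, 0, 0, 1, 0, 0, 0, 0, 0],
   [0, 0, 0, 0, 0, 0, 0, 0, 0, 1, 0, 0, 0, 0],
   [0, 0, 0, 0, 1, 0, 0, 0, 0, 0, 1, 0, 0, 0],
   [0, 0, 0, 0, 0, 4, 0, 0, 0, 0, 0, 1, 0, 0],
   [0, 0, 0, 0, 0, 0, 0, 4, 0, 0, 0, 0, 1, 0],
   [0, 4, 4, 0, 0, 0, 0, 0, 0, 0, 0, 0, 0, 1]]

/-- Table. -/
def eC20 : List (List ℕ) :=
  [[1, 0, 2, 0, 0, 0, 0, 0, 0, 0, 0, 0, 0, 0],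
   [0, 1, 4, 0, 0, 0, 0, 0, 0, 0, 0, 0, 0, 0],
   [0, 0, 1, 0, 0, 0, 0, 0, 0, 0, 0, 0, 0, 0],
   [0, 0, 0, 1, 0, 0, 0, 0, 0, 0, 0, 0, 0, 0],
   [0, 0, 0, 0, 1, 0, 0, 0, 0, 0, 0, 0, 0, 0],
   [0, 0, 0, 0, 0, 1, 0, 0, 0, 0, 0, 0, 0, 0],
   [0, 0, 0, 0, 0, 0, 1, 0, 0, 0, 0, 0, 0, 0],
   [0, 0, 0, 0, 0, 0, 0, 1, 0, 0, 0, 0, 0, 0],
   [0, 0, 0, 2, 0, 0, 0, 0, 1, 0, 0, 0, 0, 0],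
   [0, 0, 0, 0, 0, 0, 0, 0, 0, 1, 0, 0, 0, 0],
   [0, 0, 0, 0, 2, 0, 0, 0, 0, 0, 1, 0, 0, 0],
   [0, 0, 0, 0, 0, 3, 0, 0, 0, 0, 0, 1, 0, 0],
   [0, 0, 0, 0, 0, 0, 0, 3, 0, 0, 0, 0, 1, 0],
   [0, 3, 1, 0, 0, 0, 0, 0, 0, 0, 0, 0, 0, 1]]

/-- Table. -/
def eC25 : List (List ℕ) :=
  [[1, 0, 0, 0, 0, 0, 0, 0, 0, 0, 0, 0, 0, 0],
   [0, 1, 0, 0, 0, 0, 0, 0, 0, 0, 0, 0, 0, 0],
   [0, 0, 1, 0, 0, 0, 0, 0, 0, 0, 0, 0, 0, 0],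
   [0, 0, 0, 1, 0, 0, 0, 0, 0, 0, 0, 0, 0, 0],
   [0, 0, 0, 0, 1, 0, 0, 0, 0, 0, 0, 0, 0, 0],
   [0, 0, 0, 0, 0, 1, 0, 0, 0, 0, 0, 0, 0, 0],
   [0, 0, 0, 0, 0, 0, 1, 0, 0, 0, 0, 0, 0, 0],
   [0, 0, 0, 0, 0, 0, 0, 1, 0, 0, 0, 0, 0, 0],
   [0, 0, 0, 0, 0, 0, 0, 0, 1, 0, 0, 0, 0, 0],
   [0, 0, 0, 0, 0, 0, 0, 0, 0, 1, 0, 0, 0, 0],
   [0, 0, 0, 0, 0, 0, 0, 0, 0, 0, 1, 0, 0, 0],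
   [0, 0, 0, 0, 0, 0, 0, 0, 0, 0, 0, 1, 0, 0],
   [0, 0, 0, 0, 0, 0, 0, 0, 0, 0, 0, 0, 1, 0],
   [0, 0, 0, 0, 0, 0, 0, 0, 0, 0, 0, 0, 0, 1]]

theorem eCx0_entry : ∀ a b : chevG2.Idx, tabMat 5 eCx0 a b =
    (if a = b then 1 else 0) + colVal (1 : ZMod 5) (enc chevG2 a) (colOf chevG2 g2Cert.T 7 (enc chevG2 b)) := by
  exact of_allIdx (by decide +kernel)

theorem eCx0_eq [Fact (Nat.Prime 5)] :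
    tabMat 5 eCx0 = chevG2.x (ZMod 5) 7 1 :=
  Matrix.ext fun a b => by
    rw [x_apply g2_checks.tab (ZMod 5) (show 7 < chevG2.nroots by decide +kernel)]
    exact eCx0_entry a b

theorem eCx1_entry : ∀ a b : chevG2.Idx, tabMat 5 eCx1 a b =
    (if a = b then 1 else 0) + colVal (1 : ZMod 5) (enc chevG2 a) (colOf chevG2 g2Cert.T 6 (enc chevG2 b)) := by
  exact of_allIdx (by decide +kernel)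

theorem eCx1_eq [Fact (Nat.Prime 5)] :
    tabMat 5 eCx1 = chevG2.x (ZMod 5) 6 1 :=
  Matrix.ext fun a b => by
    rw [x_apply g2_checks.tab (ZMod 5) (show 6 < chevG2.nroots by decide +kernel)]
    exact eCx1_entry a b

theorem eC1_entry : ∀ a b : chevG2.Idx, ((tabMat 5 eCx0) * tabMat 5 eCx1) a b = tabMat 5 eC1 a b := by
  exact of_allIdx (by decide +kernel)

theorem eC2_entry : ∀ a b : chevG2.Idx, (tabMat 5 eC1 * tabMat 5 eC1) a b = tabMat 5 eC2 a b := by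
  exact of_allIdx (by decide +kernel)

theorem eC4_entry : ∀ a b : chevG2.Idx, (tabMat 5 eC2 * tabMat 5 eC2) a b = tabMat 5 eC4 a b := by
  exact of_allIdx (by decide +kernel)

theorem eC5_entry : ∀ a b : chevG2.Idx, (tabMat 5 eC4 * tabMat 5 eC1) a b = tabMat 5 eC5 a b := by
  exact of_allIdx (by decide +kernel)

theorem eC10_entry : ∀ a b : chevG2.Idx, (tabMat 5 eC5 * tabMat 5 eC5) a b = tabMat 5 eC10 a b := by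
  exact of_allIdx (by decide +kernel)

theorem eC20_entry : ∀ a b : chevG2.Idx, (tabMat 5 eC10 * tabMat 5 eC10) a b = tabMat 5 eC20 a b := by
  exact of_allIdx (by decide +kernel)

theorem eC25_entry : ∀ a b : chevG2.Idx, (tabMat 5 eC20 * tabMat 5 eC5) a b = tabMat 5 eC25 a b := by
  exact of_allIdx (by decide +kernel)

theorem eC25_one : ∀ a b : chevG2.Idx, tabMat 5 eC25 a b = if a = b then 1 else 0 := by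
  exact of_allIdx (by decide +kernel)

theorem eC5_ne : ¬ ∀ a b : chevG2.Idx, tabMat 5 eC5 a b = if a = b then 1 else 0 := fun h =>
  absurd (h (Sum.inl ⟨0, by decide +kernel⟩ : chevG2.Idx) (Sum.inr ⟨0, by decide +kernel⟩ : chevG2.Idx)) (by decide +kernel)

theorem exists_order_25_p5 [Fact (Nat.Prime 5)] : ∃ g ∈ chevG2.group (ZMod 5), g ^ 25 = 1 ∧ g ^ 5 ≠ (1 : GL chevG2.Idx (ZMod 5)) := by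
  refine ⟨xG facts_chevG2 7 (1 : ZMod 5) * xG facts_chevG2 6 (1 : ZMod 5), Subgroup.mul_mem _ (xG_mem_group _ 7 _) (xG_mem_group _ 6 _), ?_⟩
  set g : GL chevG2.Idx (ZMod 5) := xG facts_chevG2 7 (1 : ZMod 5) * xG facts_chevG2 6 (1 : ZMod 5) with hg
  have h1 : (g : Matrix chevG2.Idx chevG2.Idx (ZMod 5)) = tabMat 5 eC1 := by
    rw [hg]; simp only [Units.val_mul, xG_val, ← eCx0_eq, ← eCx1_eq]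
    exact Matrix.ext eC1_entry
  have h2 : ((g ^ 2 : GL chevG2.Idx (ZMod 5)) : Matrix chevG2.Idx chevG2.Idx (ZMod 5)) = tabMat 5 eC2 := by
    rw [show g ^ 2 = g * (g) from (by simp only [← pow_succ, ← pow_succ', ← sq]), Units.val_mul, h1]
    exact Matrix.ext eC2_entry
  have h4 : ((g ^ 4 : GL chevG2.Idx (ZMod 5)) : Matrix chevG2.Idx chevG2.Idx (ZMod 5)) = tabMat 5 eC4 := by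
    rw [show g ^ 4 = g ^ 2 * (g ^ 2) from (pow_add g 2 2), Units.val_mul, h2]
    exact Matrix.ext eC4_entry
  have h5 : ((g ^ 5 : GL chevG2.Idx (ZMod 5)) : Matrix chevG2.Idx chevG2.Idx (ZMod 5)) = tabMat 5 eC5 := by
    rw [show g ^ 5 = g ^ 4 * (g) from (by simp only [← pow_succ, ← pow_succ', ← sq]), Units.val_mul, h4, h1]
    exact Matrix.ext eC5_entry
  have h10 : ((g ^ 10 : GL chevG2.Idx (ZMod 5)) : Matrix chevG2.Idx chevG2.Idx (ZMod 5)) = tabMat 5 eC10 := by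
    rw [show g ^ 10 = g ^ 5 * (g ^ 5) from (pow_add g 5 5), Units.val_mul, h5]
    exact Matrix.ext eC10_entry
  have h20 : ((g ^ 20 : GL chevG2.Idx (ZMod 5)) : Matrix chevG2.Idx chevG2.Idx (ZMod 5)) = tabMat 5 eC20 := by
    rw [show g ^ 20 = g ^ 10 * (g ^ 10) from (pow_add g 10 10), Units.val_mul, h10]
    exact Matrix.ext eC20_entry
  have h25 : ((g ^ 25 : GL chevG2.Idx (ZMod 5)) : Matrix chevG2.Idx chevG2.Idx (ZMod 5)) = tabMat 5 eC25 := by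
    rw [show g ^ 25 = g ^ 20 * (g ^ 5) from (pow_add g 20 5), Units.val_mul, h20, h5]
    exact Matrix.ext eC25_entry
  refine ⟨Units.ext (Matrix.ext fun a b => by rw [h25, eC25_one, Units.val_one, Matrix.one_apply]), ?_⟩
  · exact fun e => eC5_ne fun a b => by
      rw [← h5, e, Units.val_one, Matrix.one_apply]

/-- Table. -/
def eDx0 : List (List ℕ) :=
  [[1, 0, 0, 0, 0, 0, 0, 0, 0, 0, 0, 0, 0, 1],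
   [0, 1, 0, 0, 0, 0, 0, 0, 0, 0, 0, 0, 0, 0],
   [0, 1, 1, 0, 0, 0, 0, 0, 0, 0, 0, 0, 0, 1],
   [0, 0, 0, 1, 0, 0, 0, 0, 1, 0, 0, 0, 0, 0],
   [0, 0, 0, 0, 1, 0, 0, 0, 0, 0, 1, 0, 0, 0],
   [0, 0, 0, 0, 0, 1, 0, 0, 0, 0, 0, 1, 0, 0],
   [0, 0, 0, 0, 0, 0, 1, 0, 0, 0, 0, 0, 0, 0],
   [0, 0, 0, 0, 0, 0, 0, 1, 0, 0, 0, 0, 1, 0],
   [0, 0, 0, 0, 0, 0, 0, 0, 1, 0, 0, 0, 0, 0],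
   [0, 0, 0, 0, 0, 0, 0, 0, 0, 1, 0, 0, 0, 0],
   [0, 0, 0, 0, 0, 0, 0, 0, 0, 0, 1, 0, 0, 0],
   [0, 0, 0, 0, 0, 0, 0, 0, 0, 0, 0, 1, 0, 0],
   [0, 0, 0, 0, 0, 0, 0, 0, 0, 0, 0, 0, 1, 0],
   [0, 0, 0, 0, 0, 0, 0, 0, 0, 0, 0, 0, 0, 1]]

/-- Table. -/
def eDx1 : List (List ℕ) :=
  [[1, 0, 0, 0, 0, 0, 0, 0, 0, 0, 0, 0, 0, 0],
   [0, 1, 0, 0, 0, 0, 0, 0, 0, 0, 0, 1, 0, 0],
   [0, 0, 1, 0, 0, 1, 0, 0, 0, 1, 0, 0, 1, 0],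
   [0, 0, 0, 1, 0, 0, 1, 0, 0, 0, 1, 0, 0, 1],
   [1, 0, 0, 0, 1, 0, 0, 0, 0, 0, 0, 1, 0, 0],
   [0, 0, 0, 0, 0, 1, 0, 0, 0, 0, 0, 0, 1, 0],
   [0, 0, 0, 0, 0, 0, 1, 0, 0, 0, 0, 0, 0, 1],
   [0, 0, 0, 0, 0, 0, 0, 1, 0, 0, 0, 0, 0, 0],
   [0, 0, 0, 0, 0, 0, 0, 0, 1, 0, 0, 0, 0, 0],
   [0, 0, 0, 0, 0, 0, 0, 0, 0, 1, 0, 0, 1, 0],
   [0, 0, 0, 0, 0, 0, 0, 0, 0, 0, 1, 0, 0, 1],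
   [0, 0, 0, 0, 0, 0, 0, 0, 0, 0, 0, 1, 0, 0],
   [0, 0, 0, 0, 0, 0, 0, 0, 0, 0, 0, 0, 1, 0],
   [0, 0, 0, 0, 0, 0, 0, 0, 0, 0, 0, 0, 0, 1]]

/-- Table. -/
def eDx2 : List (List ℕ) :=
  [[1, 0, 0, 0, 0, 0, 0, 0, 0, 0, 0, 0, 0, 0],
   [0, 1, 0, 0, 1, 0, 0, 0, 0, 0, 0, 0, 0, 0],
   [0, 0, 1, 0, 0, 0, 0, 0, 0, 0, 0, 0, 0, 0],
   [0, 0, 0, 1, 0, 0, 0, 0, 0, 0, 0, 0, 0, 0],
   [0, 0, 0, 0, 1, 0, 0, 0, 0, 0, 0, 0, 0, 0],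
   [0, 0, 1, 0, 0, 1, 0, 0, 0, 0, 0, 0, 0, 0],
   [0, 0, 0, 1, 0, 0, 1, 0, 0, 0, 0, 0, 0, 0],
   [0, 0, 0, 0, 0, 0, 0, 1, 0, 0, 0, 0, 0, 0],
   [0, 0, 0, 0, 0, 0, 0, 0, 1, 0, 0, 0, 0, 0],
   [0, 0, 1, 0, 0, 0, 0, 0, 0, 1, 0, 0, 0, 0],
   [0, 0, 0, 1, 0, 0, 0, 0, 0, 0, 1, 0, 0, 0],
   [1, 0, 0, 0, 1, 0, 0, 0, 0, 0, 0, 1, 0, 0],
   [0, 0, 1, 0, 0, 1, 0, 0, 0, 1, 0, 0, 1, 0],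
   [0, 0, 0, 1, 0, 0, 1, 0, 0, 0, 1, 0, 0, 1]]

/-- Table. -/
def eD1 : List (List ℕ) :=
  [[1, 0, 0, 1, 0, 0, 1, 0, 0, 0, 1, 0, 0, 1],
   [1, 1, 0, 0, 0, 0, 0, 0, 0, 0, 0, 1, 0, 0],
   [1, 1, 0, 1, 0, 0, 1, 0, 0, 0, 1, 1, 1, 1],
   [0, 0, 0, 0, 0, 0, 0, 0, 1, 0, 0, 0, 0, 1],
   [0, 0, 0, 0, 0, 0, 1, 0, 0, 0, 0, 1, 0, 1],
   [1, 0, 0, 0, 1, 0, 0, 0, 0, 1, 0, 1, 1, 0],
   [0, 0, 0, 0, 0, 0, 0, 0, 0, 0, 1, 0, 0, 1],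
   [0, 0, 1, 0, 0, 1, 0, 1, 0, 1, 0, 0, 1, 0],
   [0, 0, 0, 0, 0, 0, 0, 0, 1, 0, 0, 0, 0, 0],
   [0, 0, 0, 0, 0, 1, 0, 0, 0, 0, 0, 0, 1, 0],
   [0, 0, 0, 0, 0, 0, 1, 0, 0, 0, 0, 0, 0, 1],
   [1, 0, 0, 0, 1, 0, 0, 0, 0, 0, 0, 1, 0, 0],
   [0, 0, 1, 0, 0, 1, 0, 0, 0, 1, 0, 0, 1, 0],
   [0, 0, 0, 1, 0, 0, 1, 0, 0, 0, 1, 0, 0, 1]]

/-- Table. -/
def eD2 : List (List ℕ) :=
  [[1, 0, 0, 0, 0, 0, 1, 0, 1, 0, 1, 0, 0, 1],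
   [1, 1, 0, 1, 1, 0, 1, 0, 0, 0, 1, 0, 0, 1],
   [1, 1, 1, 0, 1, 1, 1, 0, 1, 1, 1, 0, 1, 1],
   [0, 0, 0, 1, 0, 0, 1, 0, 1, 0, 1, 0, 0, 1],
   [1, 0, 0, 1, 1, 0, 1, 0, 0, 0, 0, 1, 0, 0],
   [0, 0, 1, 1, 1, 0, 0, 0, 0, 1, 1, 0, 0, 0],
   [0, 0, 0, 1, 0, 0, 0, 0, 0, 0, 1, 0, 0, 0],
   [0, 1, 0, 1, 1, 1, 1, 1, 0, 1, 1, 0, 1, 1],
   [0, 0, 0, 0, 0, 0, 0, 0, 1, 0, 0, 0, 0, 0],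
   [1, 0, 1, 0, 1, 1, 0, 0, 0, 0, 0, 1, 0, 0],
   [0, 0, 0, 1, 0, 0, 1, 0, 0, 0, 0, 0, 0, 0],
   [0, 0, 0, 1, 1, 0, 0, 0, 0, 0, 1, 0, 0, 0],
   [0, 1, 1, 1, 1, 0, 1, 0, 0, 0, 1, 0, 0, 1],
   [0, 0, 0, 1, 0, 0, 0, 0, 1, 0, 0, 0, 0, 0]]

/-- Table. -/
def eD4 : List (List ℕ) :=
  [[1, 0, 0, 1, 0, 0, 0, 0, 1, 0, 0, 0, 0, 1],
   [1, 1, 0, 0, 0, 0, 1, 0, 1, 0, 0, 1, 0, 1],
   [1, 1, 0, 1, 0, 0, 0, 0, 0, 0, 0, 0, 1, 0],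
   [0, 0, 0, 0, 0, 0, 0, 0, 1, 0, 0, 0, 0, 1],
   [0, 0, 0, 0, 0, 0, 1, 0, 0, 0, 0, 1, 0, 0],
   [1, 1, 0, 1, 1, 0, 0, 0, 0, 1, 0, 0, 1, 0],
   [0, 0, 0, 0, 0, 0, 0, 0, 1, 0, 1, 0, 0, 1],
   [1, 1, 1, 1, 0, 0, 0, 1, 0, 0, 0, 0, 1, 0],
   [0, 0, 0, 0, 0, 0, 0, 0, 1, 0, 0, 0, 0, 0],
   [1, 1, 0, 1, 0, 1, 1, 0, 0, 0, 0, 1, 1, 0],
   [0, 0, 0, 0, 0, 0, 1, 0, 1, 0, 0, 0, 0, 1],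
   [1, 0, 0, 1, 1, 0, 1, 0, 1, 0, 1, 1, 0, 1],
   [1, 0, 1, 0, 1, 1, 1, 0, 1, 1, 0, 1, 1, 1],
   [0, 0, 0, 1, 0, 0, 1, 0, 0, 0, 1, 0, 0, 1]]

/-- Table. -/
def eD6 : List (List ℕ) :=
  [[1, 0, 0, 0, 0, 0, 0, 0, 0, 0, 0, 0, 0, 0],
   [0, 1, 0, 0, 0, 0, 0, 0, 1, 0, 0, 0, 0, 0],
   [0, 0, 1, 1, 0, 0, 0, 0, 0, 0, 0, 0, 0, 0],
   [0, 0, 0, 1, 0, 0, 0, 0, 0, 0, 0, 0, 0, 0],
   [0, 0, 0, 0, 1, 0, 0, 0, 0, 0, 0, 0, 0, 0],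
   [0, 0, 0, 0, 0, 1, 1, 0, 0, 0, 0, 0, 0, 0],
   [0, 0, 0, 0, 0, 0, 1, 0, 0, 0, 0, 0, 0, 0],
   [1, 0, 0, 0, 0, 0, 0, 1, 1, 0, 0, 0, 0, 0],
   [0, 0, 0, 0, 0, 0, 0, 0, 1, 0, 0, 0, 0, 0],
   [0, 0, 0, 0, 0, 0, 0, 0, 0, 1, 1, 0, 0, 0],
   [0, 0, 0, 0, 0, 0, 0, 0, 0, 0, 1, 0, 0, 0],
   [0, 0, 0, 0, 0, 0, 0, 0, 0, 0, 0, 1, 0, 0],
   [0, 0, 0, 0, 0, 0, 0, 0, 0, 0, 0, 0, 1, 1],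
   [0, 0, 0, 0, 0, 0, 0, 0, 0, 0, 0, 0, 0, 1]]

/-- Table. -/
def eD12 : List (List ℕ) :=
  [[1, 0, 0, 0, 0, 0, 0, 0, 0, 0, 0, 0, 0, 0],
   [0, 1, 0, 0, 0, 0, 0, 0, 0, 0, 0, 0, 0, 0],
   [0, 0, 1, 0, 0, 0, 0, 0, 0, 0, 0, 0, 0, 0],
   [0, 0, 0, 1, 0, 0, 0, 0, 0, 0, 0, 0, 0, 0],
   [0, 0, 0, 0, 1, 0, 0, 0, 0, 0, 0, 0, 0, 0],
   [0, 0, 0, 0, 0, 1, 0, 0, 0, 0, 0, 0, 0, 0],
   [0, 0, 0, 0, 0, 0, 1, 0, 0, 0, 0, 0, 0, 0],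
   [0, 0, 0, 0, 0, 0, 0, 1, 0, 0, 0, 0, 0, 0],
   [0, 0, 0, 0, 0, 0, 0, 0, 1, 0, 0, 0, 0, 0],
   [0, 0, 0, 0, 0, 0, 0, 0, 0, 1, 0, 0, 0, 0],
   [0, 0, 0, 0, 0, 0, 0, 0, 0, 0, 1, 0, 0, 0],
   [0, 0, 0, 0, 0, 0, 0, 0, 0, 0, 0, 1, 0, 0],
   [0, 0, 0, 0, 0, 0, 0, 0, 0, 0, 0, 0, 1, 0],
   [0, 0, 0, 0, 0, 0, 0, 0, 0, 0, 0, 0, 0, 1]]

theorem eDx0_entry : ∀ a b : chevG2.Idx, tabMat 2 eDx0 a b =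
    (if a = b then 1 else 0) + colVal (1 : ZMod 2) (enc chevG2 a) (colOf chevG2 g2Cert.T 0 (enc chevG2 b)) := by
  exact of_allIdx (by decide +kernel)

theorem eDx0_eq [Fact (Nat.Prime 2)] :
    tabMat 2 eDx0 = chevG2.x (ZMod 2) 0 1 :=
  Matrix.ext fun a b => by
    rw [x_apply g2_checks.tab (ZMod 2) (show 0 < chevG2.nroots by decide +kernel)]
    exact eDx0_entry a b

theorem eDx1_entry : ∀ a b : chevG2.Idx, tabMat 2 eDx1 a b =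
    (if a = b then 1 else 0) + colVal (1 : ZMod 2) (enc chevG2 a) (colOf chevG2 g2Cert.T 2 (enc chevG2 b)) := by
  exact of_allIdx (by decide +kernel)

theorem eDx1_eq [Fact (Nat.Prime 2)] :
    tabMat 2 eDx1 = chevG2.x (ZMod 2) 2 1 :=
  Matrix.ext fun a b => by
    rw [x_apply g2_checks.tab (ZMod 2) (show 2 < chevG2.nroots by decide +kernel)]
    exact eDx1_entry a b

theorem eDx2_entry : ∀ a b : chevG2.Idx, tabMat 2 eDx2 a b =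
    (if a = b then 1 else 0) + colVal (1 : ZMod 2) (enc chevG2 a) (colOf chevG2 g2Cert.T 9 (enc chevG2 b)) := by
  exact of_allIdx (by decide +kernel)

theorem eDx2_eq [Fact (Nat.Prime 2)] :
    tabMat 2 eDx2 = chevG2.x (ZMod 2) 9 1 :=
  Matrix.ext fun a b => by
    rw [x_apply g2_checks.tab (ZMod 2) (show 9 < chevG2.nroots by decide +kernel)]
    exact eDx2_entry a b

/-- Table. -/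
def eDy : List (List ℕ) :=
  [[1, 0, 0, 0, 0, 0, 0, 0, 0, 0, 0, 0, 0, 1],
   [0, 1, 0, 0, 0, 0, 0, 0, 0, 0, 0, 1, 0, 0],
   [0, 1, 1, 0, 0, 1, 0, 0, 0, 1, 0, 1, 1, 1],
   [0, 0, 0, 1, 0, 0, 1, 0, 1, 0, 1, 0, 0, 1],
   [1, 0, 0, 0, 1, 0, 0, 0, 0, 0, 1, 1, 0, 1],
   [0, 0, 0, 0, 0, 1, 0, 0, 0, 0, 0, 1, 1, 0],
   [0, 0, 0, 0, 0, 0, 1, 0, 0, 0, 0, 0, 0, 1],
   [0, 0, 0, 0, 0, 0, 0, 1, 0, 0, 0, 0, 1, 0],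
   [0, 0, 0, 0, 0, 0, 0, 0, 1, 0, 0, 0, 0, 0],
   [0, 0, 0, 0, 0, 0, 0, 0, 0, 1, 0, 0, 1, 0],
   [0, 0, 0, 0, 0, 0, 0, 0, 0, 0, 1, 0, 0, 1],
   [0, 0, 0, 0, 0, 0, 0, 0, 0, 0, 0, 1, 0, 0],
   [0, 0, 0, 0, 0, 0, 0, 0, 0, 0, 0, 0, 1, 0],
   [0, 0, 0, 0, 0, 0, 0, 0, 0, 0, 0, 0, 0, 1]]

theorem eDy_entry : ∀ a b : chevG2.Idx, (tabMat 2 eDx0 * tabMat 2 eDx1) a b = tabMat 2 eDy a b := by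
  exact of_allIdx (by decide +kernel)

theorem eD1_entry : ∀ a b : chevG2.Idx, (tabMat 2 eDy * tabMat 2 eDx2) a b = tabMat 2 eD1 a b := by
  exact of_allIdx (by decide +kernel)

theorem eD2_entry : ∀ a b : chevG2.Idx, (tabMat 2 eD1 * tabMat 2 eD1) a b = tabMat 2 eD2 a b := by
  exact of_allIdx (by decide +kernel)

theorem eD4_entry : ∀ a b : chevG2.Idx, (tabMat 2 eD2 * tabMat 2 eD2) a b = tabMat 2 eD4 a b := by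
  exact of_allIdx (by decide +kernel)

theorem eD6_entry : ∀ a b : chevG2.Idx, (tabMat 2 eD4 * tabMat 2 eD2) a b = tabMat 2 eD6 a b := by
  exact of_allIdx (by decide +kernel)

theorem eD12_entry : ∀ a b : chevG2.Idx, (tabMat 2 eD6 * tabMat 2 eD6) a b = tabMat 2 eD12 a b := by
  exact of_allIdx (by decide +kernel)

theorem eD12_one : ∀ a b : chevG2.Idx, tabMat 2 eD12 a b = if a = b then 1 else 0 := by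
  exact of_allIdx (by decide +kernel)

theorem eD4_ne : ¬ ∀ a b : chevG2.Idx, tabMat 2 eD4 a b = if a = b then 1 else 0 := fun h =>
  absurd (h (Sum.inl ⟨0, by decide +kernel⟩ : chevG2.Idx) (Sum.inr ⟨1, by decide +kernel⟩ : chevG2.Idx)) (by decide +kernel)

theorem eD6_ne : ¬ ∀ a b : chevG2.Idx, tabMat 2 eD6 a b = if a = b then 1 else 0 := fun h =>
  absurd (h (Sum.inl ⟨1, by decide +kernel⟩ : chevG2.Idx) (Sum.inr ⟨6, by decide +kernel⟩ : chevG2.Idx)) (by decide +kernel)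

theorem exists_order_12_p2 [Fact (Nat.Prime 2)] : ∃ g ∈ chevG2.group (ZMod 2), g ^ 12 = 1 ∧ g ^ 4 ≠ (1 : GL chevG2.Idx (ZMod 2)) ∧ g ^ 6 ≠ (1 : GL chevG2.Idx (ZMod 2)) := by
  refine ⟨xG facts_chevG2 0 (1 : ZMod 2) * xG facts_chevG2 2 (1 : ZMod 2) * xG facts_chevG2 9 (1 : ZMod 2), Subgroup.mul_mem _ (Subgroup.mul_mem _ (xG_mem_group _ 0 _) (xG_mem_group _ 2 _)) (xG_mem_group _ 9 _), ?_⟩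
  set g : GL chevG2.Idx (ZMod 2) := xG facts_chevG2 0 (1 : ZMod 2) * xG facts_chevG2 2 (1 : ZMod 2) * xG facts_chevG2 9 (1 : ZMod 2) with hg
  have h1 : (g : Matrix chevG2.Idx chevG2.Idx (ZMod 2)) = tabMat 2 eD1 := by
    rw [hg]; simp only [Units.val_mul, xG_val, ← eDx0_eq, ← eDx1_eq, ← eDx2_eq]
    rw [show tabMat 2 eDx0 * tabMat 2 eDx1 = tabMat 2 eDy from Matrix.ext eDy_entry]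
    exact Matrix.ext eD1_entry
  have h2 : ((g ^ 2 : GL chevG2.Idx (ZMod 2)) : Matrix chevG2.Idx chevG2.Idx (ZMod 2)) = tabMat 2 eD2 := by
    rw [show g ^ 2 = g * (g) from (by simp only [← pow_succ, ← pow_succ', ← sq]), Units.val_mul, h1]
    exact Matrix.ext eD2_entry
  have h4 : ((g ^ 4 : GL chevG2.Idx (ZMod 2)) : Matrix chevG2.Idx chevG2.Idx (ZMod 2)) = tabMat 2 eD4 := by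
    rw [show g ^ 4 = g ^ 2 * (g ^ 2) from (pow_add g 2 2), Units.val_mul, h2]
    exact Matrix.ext eD4_entry
  have h6 : ((g ^ 6 : GL chevG2.Idx (ZMod 2)) : Matrix chevG2.Idx chevG2.Idx (ZMod 2)) = tabMat 2 eD6 := by
    rw [show g ^ 6 = g ^ 4 * (g ^ 2) from (pow_add g 4 2), Units.val_mul, h4, h2]
    exact Matrix.ext eD6_entry
  have h12 : ((g ^ 12 : GL chevG2.Idx (ZMod 2)) : Matrix chevG2.Idx chevG2.Idx (ZMod 2)) = tabMat 2 eD12 := by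
    rw [show g ^ 12 = g ^ 6 * (g ^ 6) from (pow_add g 6 6), Units.val_mul, h6]
    exact Matrix.ext eD12_entry
  refine ⟨Units.ext (Matrix.ext fun a b => by rw [h12, eD12_one, Units.val_one, Matrix.one_apply]), ?_, ?_⟩
  · exact fun e => eD4_ne fun a b => by
      rw [← h4, e, Units.val_one, Matrix.one_apply]
  · exact fun e => eD6_ne fun a b => by
      rw [← h6, e, Units.val_one, Matrix.one_apply]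

end Cfsg.Agent.G2Spec
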