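import Cfsg.Agent.Chev.G2Spec.Upper
import Cfsg.Agent.Chev.G2Spec.Prime

/-!
Elements of G2 over a finite field with prescribed orders.
-/

set_option autoImplicit false

namespace Cfsg.Agent.G2Spec

open Cfsg.Lie Cfsg.Agent.Chev Cfsg.Agent.Chev.SS
open Cfsg.Agent.Chev.G2Odd
open Cfsg.Agent.Chev.G2Invol (ia ib)
open scoped MatrixGroups

universe u

section

variable {k : Type u} [Field k]

/-- A stable torus parameter from exponents. -/
theorem stable_of_exp {N : ℕ} {ζ : kˣ} (hζ : IsPrimitiveRoot ζ N) (w : List (Fin chevG2.rank))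
    {q : ℕ} (v : Fin 2 → ℤ)
    (h : ∀ i : Fin 2, (N : ℤ) ∣ q * (wM w i 0 * v 0 + wM w i 1 * v 1) - v i) :
    wordC chevG2 w ((fun i => ζ ^ v i : Fin chevG2.rank → kˣ) ^ q) = fun i => ζ ^ v i := by
  have hpow : (fun i => ζ ^ v i : Fin chevG2.rank → kˣ) ^ q = fun i => ζ ^ ((q : ℤ) * v i) := by
    funext i
    rw [Pi.pow_apply, ← zpow_natCast, ← _root_.zpow_mul, mul_comm]
  refine (congrArg (wordC chevG2 w) hpow).trans ((Eigen.wordC_zpow (D := chevG2) w ζ _).trans ?_)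
  funext i
  refine (congrArg (ζ ^ ·) (congrFun (wMat_mulVec (D := chevG2) w _) i).symm).trans ?_
  show ζ ^ _ = ζ ^ _
  rw [zpow_eq_iff hζ, ZMod.intCast_eq_intCast_iff_dvd_sub, dvd_sub_comm]
  have e : (wMat chevG2 w).mulVec (fun j => (q : ℤ) * v j) i =
      q * (wM w i 0 * v 0 + wM w i 1 * v 1) := by
    show (wM w).mulVec (fun j => (q : ℤ) * v j) i = _
    simp [Matrix.mulVec, dotProduct, Fin.sum_univ_two]
    ring
  exact (congrArg (fun z : ℤ => (N : ℤ) ∣ z - v i) e).mpr (h i)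

theorem orderOf_exp {N : ℕ} {ζ : kˣ} (hζ : IsPrimitiveRoot ζ N) (v : Fin 2 → ℤ)
    (hv : IsCoprime (N : ℤ) (v 0)) :
    orderOf (fun i => ζ ^ v i : Fin chevG2.rank → kˣ) = N := by
  refine Nat.dvd_antisymm (orderOf_dvd_of_pow_eq_one ?_) ?_
  · funext i
    rw [Pi.pow_apply, ← zpow_natCast, ← _root_.zpow_mul, mul_comm, _root_.zpow_mul,
      zpow_natCast ζ N, hζ.pow_eq_one, one_zpow, Pi.one_apply]
  · set n := orderOf (fun i => ζ ^ v i : Fin chevG2.rank → kˣ) with hn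
    have h : (fun i => ζ ^ v i : Fin chevG2.rank → kˣ) ^ n = 1 := pow_orderOf_eq_one _
    have h0 := congrFun h ia
    rw [Pi.pow_apply, ← zpow_natCast, ← _root_.zpow_mul, Pi.one_apply,
      hζ.zpow_eq_one_iff_dvd] at h0
    exact Int.natCast_dvd_natCast.1 (hv.dvd_of_dvd_mul_left (show (N : ℤ) ∣ v 0 * (n : ℤ) from h0))

end

variable {F : Type u} [Field F] [Fintype F] (p : ℕ) [Fact p.Prime] [CharP F p]

include p in
theorem card_pow : ∃ e : ℕ, e ≠ 0 ∧ Fintype.card F = p ^ e := by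
  obtain ⟨e, -, he⟩ := FiniteField.card F p
  exact ⟨e, e.ne_zero, he⟩

theorem natCast_ne_zero_of_coprime {k : Type u} [Field k] [CharP k p] {N : ℕ}
    (h : Nat.Coprime N p) : (N : k) ≠ 0 := fun h0 =>
  (Fact.out : p.Prime).not_dvd_one
    (h ▸ Nat.dvd_gcd ((CharP.cast_eq_zero_iff k p N).1 h0) dvd_rfl)

/-- An element in a twisted torus. -/
theorem exists_torus_order (w : List (Fin chevG2.rank)) (v : Fin 2 → ℤ) (N : ℕ)
    (hN : Nat.Coprime N p) (hv : IsCoprime (N : ℤ) (v 0))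
    (h : ∀ i : Fin 2, (N : ℤ) ∣ Fintype.card F * (wM w i 0 * v 0 + wM w i 1 * v 1) - v i) :
    ∃ x : ↥(chevG2.group F), orderOf x = N := by
  obtain ⟨k, _, _, _, σ, ι, S⟩ := exists_setup (F := F) p
  haveI : NeZero (N : k) := ⟨natCast_ne_zero_of_coprime p hN⟩
  haveI : NeZero N := ⟨fun e => NeZero.ne (N : k) (by rw [e, Nat.cast_zero])⟩
  obtain ⟨z, hz⟩ := HasEnoughRootsOfUnity.exists_primitiveRoot k N
  have hζ : IsPrimitiveRoot (hz.isUnit (NeZero.ne N)).unit N := IsPrimitiveRoot.coe_units_iff.1 hz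
  obtain ⟨x, g, hg, hx⟩ := S.exists_inClass (c := fun i => (hz.isUnit (NeZero.ne N)).unit ^ v i)
    ⟨w, stable_of_exp hζ w v h⟩
  refine ⟨x, ?_⟩
  conv_rhs => rw [← orderOf_exp hζ v hv, ← orderOf_injective torusHom torus_injective,
    ← orderOf_injective (MulAut.conj g).toMonoidHom (MulAut.conj g).injective]
  show _ = orderOf (g * torusHom _ * g⁻¹)
  rw [← hx, orderOf_injective (gmap chevG2 ι) (gmap_injective ι), Subgroup.orderOf_coe]

/-- A root element times a torus element fixed by the twist. -/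
theorem exists_root_mul_torus (w : List (Fin chevG2.rank)) (v : Fin 2 → ℤ) (N : ℕ)
    (hN : Nat.Coprime N p) (hv : IsCoprime (N : ℤ) (v 0)) (r : Fin chevG2.nroots)
    (hr : pWord facts_chevG2.{u} w r = r) (hrv : form r 0 * v 0 + form r 1 * v 1 = 0)
    (h : ∀ i : Fin 2, (N : ℤ) ∣ Fintype.card F * (wM w i 0 * v 0 + wM w i 1 * v 1) - v i) :
    ∃ x : ↥(chevG2.group F), orderOf x = p * N := by
  obtain ⟨k, _, _, _, σ, ι, S⟩ := exists_setup (F := F) p
  haveI : NeZero (N : k) := ⟨natCast_ne_zero_of_coprime p hN⟩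
  haveI : NeZero N := ⟨fun e => NeZero.ne (N : k) (by rw [e, Nat.cast_zero])⟩
  obtain ⟨z, hz⟩ := HasEnoughRootsOfUnity.exists_primitiveRoot k N
  set ζ : kˣ := (hz.isUnit (NeZero.ne N)).unit with hζdef
  have hζ : IsPrimitiveRoot ζ N := IsPrimitiveRoot.coe_units_iff.1 hz
  set c : Fin chevG2.rank → kˣ := fun i => ζ ^ v i with hcdef
  have hu : wordC chevG2 w (c ^ Fintype.card F) = c := stable_of_exp hζ w v h
  have hcr : chiU c (r : ℕ) = 1 := (chiU_exp hζ v r).2 (by exact_mod_cast congrArg (fun z : ℤ => (z : ZMod N)) hrv)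
  have hF := S.facts
  obtain ⟨g, hg, hgσ⟩ := exists_lang hF S.two_le σ S.frob (S.nWord_mem_group w)
  set ν : GL chevG2.Idx k := nWord hF w with hν
  obtain ⟨η, hη0, hη⟩ := isMon_nWord hF w (F := k) r
  rw [hr] at hη
  obtain ⟨t, ht⟩ := IsAlgClosed.exists_pow_nat_eq η⁻¹
    (show 0 < Fintype.card F - 1 by have := S.two_le; omega)
  have ht0 : t ≠ 0 := fun h0 => inv_ne_zero hη0 (by
    rw [← ht, h0, zero_pow (by have := S.two_le; omega)])
  have htq : η * σ t = t := by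
    rw [S.frob, show Fintype.card F = (Fintype.card F - 1) + 1 by have := S.two_le; omega, pow_succ,
      ht, ← mul_assoc, mul_inv_cancel₀ hη0, one_mul]
  set x : GL chevG2.Idx k := g * torusHom c * g⁻¹ with hxdef
  set y : GL chevG2.Idx k := g * xG hF (r : ℕ) t * g⁻¹ with hydef
  have hxfix : gmap chevG2 σ x = x := by
    have hk : torusHom c * ν = ν * torusHom (c ^ Fintype.card F) := by
      rw [hν, ← torusHom_wordC hF, hu]
    rw [hxdef, map_mul, map_mul, map_inv, hgσ, S.gmap_torus, mul_assoc g, ← hk]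
    group
  have hyfix : gmap chevG2 σ y = y := by
    rw [hydef, map_mul, map_mul, map_inv, hgσ, gmap_xG hF hF, mul_assoc g, hν, hη, htq]
    group
  have hxy : Commute x y := by
    have h : Commute (torusHom c : GL chevG2.Idx k) (xG hF (r : ℕ) t) := by
      have e := torusHom_conj hF c r.2 t
      rw [hcr, Units.val_one, one_mul] at e
      exact e
    exact h.map (MulAut.conj g).toMonoidHom
  have hy2 : orderOf y = p := by
    refine orderOf_eq_prime ?_ fun h => ht0 ((xG_eq_one_iff hF r.2).1 (conj_eq_one_iff.1 h))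
    rw [hydef, conj_pow, xG_pow_char p]
    group
  have hx : orderOf x = N :=
    ((orderOf_injective (MulAut.conj g).toMonoidHom (MulAut.conj g).injective (torusHom c)).trans
      (orderOf_injective torusHom torus_injective c)).trans (orderOf_exp hζ v hv)
  have hz : orderOf (x * y) = p * N := by
    rw [hxy.orderOf_mul_eq_mul_orderOf_of_coprime (by rw [hx, hy2]; exact hN), hx, hy2, mul_comm]
  obtain ⟨e, he⟩ := S.exists_mem_of_fixed (Subgroup.mul_mem _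
      (Subgroup.mul_mem _ (Subgroup.mul_mem _ hg (S.torus_mem_group c)) (Subgroup.inv_mem _ hg))
      (Subgroup.mul_mem _ (Subgroup.mul_mem _ hg (xG_mem_group hF _ _)) (Subgroup.inv_mem _ hg)))
    (by rw [map_mul, hxfix, hyfix])
  refine ⟨e, ?_⟩
  rw [← hz, ← he, orderOf_injective (gmap chevG2 ι) (gmap_injective ι), Subgroup.orderOf_coe]

omit p in
theorem tables : wM [ia] 0 0 = -1 ∧ wM [ia] 0 1 = 1 ∧ wM [ia] 1 0 = 0 ∧ wM [ia] 1 1 = 1 ∧
    wM [ia, ib] 0 0 = 2 ∧ wM [ia, ib] 0 1 = -1 ∧ wM [ia, ib] 1 0 = 3 ∧ wM [ia, ib] 1 1 = -1 ∧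
    wM [ia, ib, ia, ib] 0 0 = 1 ∧ wM [ia, ib, ia, ib] 0 1 = -1 ∧
    wM [ia, ib, ia, ib] 1 0 = 3 ∧ wM [ia, ib, ia, ib] 1 1 = -2 ∧
    wM [] 0 0 = 1 ∧ wM [] 0 1 = 0 ∧ wM [] 1 0 = 0 ∧ wM [] 1 1 = 1 ∧
    wM [ib, ia, ib, ia, ib] 0 0 * 1 + wM [ib, ia, ib, ia, ib] 0 1 * 2 = -1 ∧
    wM [ib, ia, ib, ia, ib] 1 0 * 1 + wM [ib, ia, ib, ia, ib] 1 1 * 2 = -2 ∧
    chevG2.simple (ia : ℕ) < chevG2.nroots ∧ form (chevG2.simple (ia : ℕ)) 0 = 2 ∧
    form (chevG2.simple (ia : ℕ)) 1 = -1 ∧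
    wStep chevG2 [ib, ia, ib, ia, ib] (chevG2.simple (ia : ℕ)) = chevG2.simple (ia : ℕ) := by
  decide +kernel

variable (F)

/-- The five families of orders. -/
theorem exists_orders :
    (∃ x : ↥(chevG2.group F), orderOf x = Fintype.card F ^ 2 - 1) ∧
    (∃ x : ↥(chevG2.group F), orderOf x = Fintype.card F ^ 2 + Fintype.card F + 1) ∧
    (∃ x : ↥(chevG2.group F), orderOf x = Fintype.card F ^ 2 - Fintype.card F + 1) ∧
    (∃ x : ↥(chevG2.group F), orderOf x = p * (Fintype.card F - 1)) ∧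
    (∃ x : ↥(chevG2.group F), orderOf x = p * (Fintype.card F + 1)) := by
  obtain ⟨a1, a2, a3, a4, b1, b2, b3, b4, c1, c2, c3, c4, d1, d2, d3, d4, e1, e2, hs, f0, f1,
    hfix⟩ := tables
  obtain ⟨e, he0, hqe⟩ := card_pow (F := F) p
  set q := Fintype.card F with hq
  have hq2 : 2 ≤ q := hq ▸ Fintype.one_lt_card
  have hp : p.Prime := Fact.out
  have cop : ∀ N : ℕ, (∀ d : ℤ, d ∣ (N : ℤ) → d ∣ (q : ℤ) → d ∣ 1) →
      Nat.Coprime N p ∧ IsCoprime (N : ℤ) (q : ℤ) := by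
    intro N h
    have hc : Nat.Coprime N q := Nat.coprime_of_dvd' fun d _ hd1 hd2 =>
      Int.natCast_dvd_natCast.1 (h d (Int.natCast_dvd_natCast.2 hd1) (Int.natCast_dvd_natCast.2 hd2))
    exact ⟨Nat.Coprime.coprime_dvd_right (hqe ▸ dvd_pow_self p he0) hc,
      Nat.isCoprime_iff_coprime.2 hc⟩
  have hsq : ((q ^ 2 - 1 : ℕ) : ℤ) = (q : ℤ) ^ 2 - 1 := by
    rw [Nat.cast_sub (Nat.one_le_pow _ _ (by omega))]; push_cast; ring
  have hsub : ((q ^ 2 - q + 1 : ℕ) : ℤ) = (q : ℤ) ^ 2 - q + 1 := by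
    rw [Nat.cast_add, Nat.cast_sub (Nat.le_self_pow two_ne_zero q)]; push_cast; ring
  refine ⟨?_, ?_, ?_, ?_, ?_⟩
  · obtain ⟨hN, hc⟩ := cop (q ^ 2 - 1) fun d h1 h2 => by
      rw [hsq] at h1
      exact (dvd_sub_right (h2.trans (dvd_pow_self _ two_ne_zero))).1 h1
    refine exists_torus_order p [ia] ![q, 1 + q] _ hN hc fun i => ?_
    rw [hsq]
    fin_cases i
    · refine ⟨0, ?_⟩; simp [a1, a2]; ring
    · refine ⟨1, ?_⟩; simp [a3, a4]; ring
  · obtain ⟨hN, hc⟩ := cop (q ^ 2 + q + 1) fun d h1 h2 => by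
      push_cast at h1
      exact (dvd_add_right (dvd_add (h2.trans (dvd_pow_self _ two_ne_zero)) h2)).1 h1
    refine exists_torus_order p [ia, ib, ia, ib] ![-q, 1 - q] _ hN hc.neg_right fun i => ?_
    push_cast
    fin_cases i
    · refine ⟨0, ?_⟩; simp [c1, c2]; ring
    · refine ⟨-1, ?_⟩; simp [c3, c4]; ring
  · obtain ⟨hN, hc⟩ := cop (q ^ 2 - q + 1) fun d h1 h2 => by
      rw [hsub] at h1
      exact (dvd_add_right (dvd_sub (h2.trans (dvd_pow_self _ two_ne_zero)) h2)).1 h1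
    refine exists_torus_order p [ia, ib] ![-q, 1 - 2 * q] _ hN hc.neg_right fun i => ?_
    rw [hsub]
    fin_cases i
    · refine ⟨0, ?_⟩; simp [b1, b2]; ring
    · refine ⟨-1, ?_⟩; simp [b3, b4]; ring
  · obtain ⟨hN, -⟩ := cop (q - 1) fun d h1 h2 => by
      rw [Nat.cast_sub (by omega)] at h1
      exact (dvd_sub_right h2).1 h1
    refine exists_root_mul_torus p [] ![1, 2] _ hN isCoprime_one_right ⟨_, hs⟩ rfl
      (by simp [f0, f1]) fun i => ?_
    rw [Nat.cast_sub (by omega)]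
    fin_cases i
    · refine ⟨1, ?_⟩; simp [d1, d2]; ring
    · refine ⟨2, ?_⟩; simp [d3, d4]; ring
  · obtain ⟨hN, -⟩ := cop (q + 1) fun d h1 h2 => by
      push_cast at h1
      exact (dvd_add_right h2).1 h1
    refine exists_root_mul_torus p [ib, ia, ib, ia, ib] ![1, 2] _ hN isCoprime_one_right ⟨_, hs⟩
      (Fin.ext (by rw [pWord_wStep]; exact hfix)) (by simp [f0, f1]) fun i => ?_
    push_cast
    fin_cases i
    · refine ⟨-1, ?_⟩
      show (q : ℤ) * (wM [ib, ia, ib, ia, ib] 0 0 * 1 + wM [ib, ia, ib, ia, ib] 0 1 * 2) - 1 = _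
      rw [e1]; ring
    · refine ⟨-2, ?_⟩
      show (q : ℤ) * (wM [ib, ia, ib, ia, ib] 1 0 * 1 + wM [ib, ia, ib, ia, ib] 1 1 * 2) - 2 = _
      rw [e2]; ring

/-- Transport from the prime field. -/
theorem exists_prime_field {n : ℕ} (bad : List ℕ)
    (h : ∃ g ∈ chevG2.group (ZMod p), g ^ n = 1 ∧ ∀ b ∈ bad, g ^ b ≠ (1 : GL chevG2.Idx (ZMod p))) :
    ∃ x : ↥(chevG2.group F), x ^ n = 1 ∧ ∀ b ∈ bad, x ^ b ≠ 1 := by
  obtain ⟨g, hg, hn, hb⟩ := h
  set f : ZMod p →+* F := ZMod.castHom (dvd_refl p) F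
  refine ⟨⟨gmap chevG2 f g, gmap_mem_group facts_chevG2.{0} facts_chevG2.{u} f hg⟩,
    Subtype.ext ?_, fun b hbm e => hb b hbm ?_⟩
  · show gmap chevG2 f g ^ n = 1
    rw [← map_pow, hn, map_one]
  · have e' : gmap chevG2 f g ^ b = 1 := congrArg Subtype.val e
    rw [← map_pow, ← map_one (gmap chevG2 f)] at e'
    exact gmap_injective f e'

end Cfsg.Agent.G2Spec
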