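import Cfsg.Agent.Chev.G2Invol
import Cfsg.Agent.Chev.UnipotentCount
import Cfsg.Agent.S1059

/-!
The exponent of the `p`-elements of G2: `p ^ j` annihilates the positive unipotent subgroup as
soon as `p ^ j` is at least seven.
-/

set_option autoImplicit false

namespace Cfsg.Agent.G2Spec

open Cfsg.Lie Cfsg.Agent.Chev
open scoped MatrixGroups

universe u

variable {F : Type u} [Field F]

theorem belowBy_pow {D : ChevalleyDatum} {A : Matrix D.Idx D.Idx F} (h : BelowBy 1 A) :
    ∀ m, BelowBy m (A ^ m) := by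
  intro m
  induction m with
  | zero =>
    intro a b hab
    rw [pow_zero, Matrix.one_apply_ne fun e => by subst e; omega]
  | succ m ih => rw [pow_succ]; exact ih.mul h

/-- The coroot entry of `j` at `r` is below the diagonal by less than seven. -/
def nearB (r j : ℕ) : Bool :=
  decide (half chevG2 + j < chevG2.neg r + 7) && decide (chevG2.neg r < half chevG2)

/-- For every positive root coprime coroot coefficients at short distance. -/
theorem coroot_entry : ∀ r : Fin chevG2.nroots, half chevG2 ≤ (r : ℕ) →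
    ((List.finRange chevG2.rank).any fun j => (List.finRange chevG2.rank).any fun j' =>
      (Int.gcd (coef chevG2 (r : ℕ) (j : ℕ)) (coef chevG2 (r : ℕ) (j' : ℕ)) == 1) &&
        nearB (r : ℕ) (j : ℕ) && nearB (r : ℕ) (j' : ℕ)) = true := by decide +kernel

theorem eq_one_of_belowBy {g : GL chevG2.Idx F} (hg : g ∈ chevG2.posUnipotent F)
    (h : BelowBy 7 ((g : Matrix chevG2.Idx chevG2.Idx F) - 1)) : g = 1 := by
  have hF := facts_chevG2.{u}
  obtain ⟨t, rfl⟩ := (mem_posUnipotent_iff hF).1 hg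
  suffices ∀ (d k : ℕ), chevG2.nroots - k = d → half chevG2 ≤ k →
      BelowBy 7 ((prodFrom hF k t : GL chevG2.Idx F) - 1 : Matrix chevG2.Idx chevG2.Idx F) →
      prodFrom hF k t = 1 from this _ _ rfl le_rfl h
  intro d
  induction d with
  | zero => intro k hd _ _; exact prodFrom_top hF (by omega) _
  | succ d ih =>
    intro k hd hk hb
    have hkn : k < chevG2.nroots := by omega
    obtain ⟨j, -, hj⟩ := List.any_eq_true.1 (coroot_entry ⟨k, hkn⟩ hk)
    obtain ⟨j', -, hjj⟩ := List.any_eq_true.1 hj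
    simp only [Bool.and_eq_true, beq_iff_eq] at hjj
    obtain ⟨⟨hgcd, hn⟩, hn'⟩ := hjj
    have key : ∀ i : Fin chevG2.rank, nearB k (i : ℕ) = true →
        ((coef chevG2 k (i : ℕ) : ℤ) : F) * t k = 0 := by
      intro i hi
      simp only [nearB, Bool.and_eq_true, decide_eq_true_eq] at hi
      have e := prodFrom_coroot hF hk hkn t i
      have e0 := hb (Sum.inl i) (Sum.inr ⟨chevG2.neg k, neg_lt hF hkn⟩) (by
        show half chevG2 + (i : ℕ) <
          (if chevG2.neg k < half chevG2 then chevG2.neg k else chevG2.rank + chevG2.neg k) + 7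
        rw [if_pos hi.2]; exact hi.1)
      rw [Matrix.sub_apply, Matrix.one_apply_ne (by simp), sub_zero, e] at e0
      exact e0
    have htk : t k = 0 := by
      have hb' := Int.gcd_eq_gcd_ab (coef chevG2 k (j : ℕ)) (coef chevG2 k (j' : ℕ))
      rw [hgcd] at hb'
      have hb2 := congrArg (fun z : ℤ => (z : F) * t k) hb'
      push_cast at hb2
      linear_combination hb2 + ((Int.gcdA (coef chevG2 k (j : ℕ)) (coef chevG2 k (j' : ℕ)) : ℤ) : F) *
        key j hn + ((Int.gcdB (coef chevG2 k (j : ℕ)) (coef chevG2 k (j' : ℕ)) : ℤ) : F) * key j' hn'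
    rw [prodFrom_succ hF hkn, htk, xG_zero, one_mul]
    refine ih (k + 1) (by omega) (by omega) ?_
    rwa [prodFrom_succ hF hkn, htk, xG_zero, one_mul] at hb

/-- `p ^ j` annihilates the unipotent elements as soon as it is at least seven. -/
theorem pow_eq_one {p : ℕ} [Fact p.Prime] [CharP F p] {g : GL chevG2.Idx F}
    (hg : g ∈ chevG2.posUnipotent F) {j : ℕ} (hj : 7 ≤ p ^ j) : g ^ p ^ j = 1 := by
  refine eq_one_of_belowBy (Subgroup.pow_mem _ hg _) ?_
  haveI : Nonempty chevG2.Idx := ⟨Sum.inl ⟨0, (facts_chevG2.{u}).rank_pos⟩⟩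
  have h1 := (posUnipotent_le_lowerGroup facts_chevG2.{u} hg).1
  have h2 := belowBy_pow h1 (p ^ j)
  rw [sub_pow_char_pow_of_commute p j (Commute.one_right (g : Matrix chevG2.Idx chevG2.Idx F)), one_pow] at h2
  rw [Units.val_pow_eq_pow_val]
  exact h2.mono hj

/-- The unipotent elements form a Sylow subgroup. -/
theorem exists_pow_eq_one [Fintype F] {p : ℕ} [Fact p.Prime] [CharP F p] {x : ↥(chevG2.group F)}
    {i : ℕ} (hx : x ^ p ^ i = 1) {j : ℕ} (hj : 7 ≤ p ^ j) : x ^ p ^ j = 1 := by
  classical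
  have hF := facts_chevG2.{u}
  set U := (chevG2.posUnipotent F).subgroupOf (chevG2.group F)
  have hle : chevG2.posUnipotent F ≤ chevG2.group F :=
    le_trans le_sup_left (borel_le_group hF)
  have hU : IsPGroup p ↥U :=
    (isPGroup_posUnipotent hF p).of_equiv (Subgroup.subgroupOfEquivOfLe hle).symm
  have hnd : ¬ p ∣ U.index := by
    obtain ⟨n, -, hq⟩ := FiniteField.card F p
    have he := Subgroup.card_mul_index U
    rw [Nat.card_congr (Subgroup.subgroupOfEquivOfLe hle).toEquiv, card_posUnipotent hF,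
      S1059.result rfl, show half chevG2 = 6 by decide +kernel, mul_assoc] at he
    rw [Nat.eq_of_mul_eq_mul_left (pow_pos Fintype.card_pos _) he]
    have hp : p.Prime := Fact.out
    have hpq : p ∣ Fintype.card F := hq ▸ dvd_pow_self p n.ne_zero
    have key : ∀ e, e ≠ 0 → ¬ p ∣ Fintype.card F ^ e - 1 := fun e he h => by
      have h2 := Nat.dvd_sub (hpq.trans (dvd_pow_self _ he)) h
      rw [Nat.sub_sub_self (Nat.one_le_pow _ _ Fintype.card_pos)] at h2
      exact hp.not_dvd_one h2
    exact hp.not_dvd_mul (key 2 (by omega)) (key 6 (by omega))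
  let S := hU.toSylow hnd
  have hP : IsPGroup p ↥(Subgroup.zpowers x) := by
    rintro ⟨y, hy⟩
    obtain ⟨m, rfl⟩ := Subgroup.mem_zpowers_iff.1 hy
    exact ⟨i, Subtype.ext (by
      rw [Subgroup.coe_pow, ← zpow_natCast, ← zpow_mul, mul_comm, zpow_mul, zpow_natCast, hx,
        one_zpow, Subgroup.coe_one])⟩
  obtain ⟨T, hT⟩ := hP.exists_le_sylow
  obtain ⟨g, hg⟩ := MulAction.exists_smul_eq ↥(chevG2.group F) T S
  have hm : g * x * g⁻¹ ∈ (S : Subgroup ↥(chevG2.group F)) := by
    rw [← hg, Sylow.coe_subgroup_smul]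
    exact ⟨x, hT (Subgroup.mem_zpowers x), rfl⟩
  rw [IsPGroup.toSylow_coe, Subgroup.mem_subgroupOf] at hm
  have h := pow_eq_one hm hj (p := p)
  rw [← Subgroup.coe_pow] at h
  have h2 : (g * x * g⁻¹) ^ p ^ j = 1 := Subtype.ext h
  rwa [conj_pow, conj_eq_one_iff] at h2

end Cfsg.Agent.G2Spec
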