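import Cfsg.Agent.Chev.G2Spec.Exist

/-!
The maximal element orders of G2 over a finite field.
-/

set_option autoImplicit false

namespace Cfsg.Agent.G2Spec

/-- The maximal elements under divisibility of `ω` are an antichain covering it. -/
theorem maximal_eq {ω T : Set ℕ} (hcov : ∀ n ∈ ω, ∃ t ∈ T, n ∣ t) (hsub : T ⊆ ω)
    (hanti : ∀ t ∈ T, ∀ t' ∈ T, t ∣ t' → t = t') :
    {n : ℕ | n ∈ ω ∧ ∀ m ∈ ω, n ∣ m → m = n} = T := by
  ext n
  constructor
  · rintro ⟨hn, hmax⟩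
    obtain ⟨t, ht, hnt⟩ := hcov n hn
    exact hmax t (hsub ht) hnt ▸ ht
  · intro hn
    refine ⟨hsub hn, fun m hm hnm => ?_⟩
    obtain ⟨t, ht, hmt⟩ := hcov m hm
    have := hanti n hn t ht (hnm.trans hmt)
    exact Nat.dvd_antisymm (this ▸ hmt) hnm

theorem odd_antichain {q p : ℕ} (hp : p.Prime) (hp2 : p ≠ 2) (hpq : p ∣ q) (hq : 5 ≤ q) :
    ∀ t ∈ ({p * (q + 1), p * (q - 1), q ^ 2 - 1, q ^ 2 + q + 1, q ^ 2 - q + 1} : Set ℕ) ∪
        (if p = 3 ∨ p = 5 then ({p ^ 2} : Set ℕ) else ∅),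
      ∀ t' ∈ ({p * (q + 1), p * (q - 1), q ^ 2 - 1, q ^ 2 + q + 1, q ^ 2 - q + 1} : Set ℕ) ∪
        (if p = 3 ∨ p = 5 then ({p ^ 2} : Set ℕ) else ∅), t ∣ t' → t = t' := by
  have hp3 : 3 ≤ p := by have := hp.two_le; omega
  have hpz : (p : ℤ) ∣ (q : ℤ) := Int.natCast_dvd_natCast.2 hpq
  have hp1 : ¬ (p : ℤ) ∣ 1 := fun h => hp.not_dvd_one (Int.natCast_dvd_natCast.1 (by simpa using h))
  have hsq : ((q ^ 2 - 1 : ℕ) : ℤ) = (q : ℤ) ^ 2 - 1 := by
    rw [Nat.cast_sub (Nat.one_le_pow _ _ (by omega))]; push_cast; ring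
  have hsub : ((q ^ 2 - q + 1 : ℕ) : ℤ) = (q : ℤ) ^ 2 - q + 1 := by
    rw [Nat.cast_add, Nat.cast_sub (Nat.le_self_pow two_ne_zero q)]; push_cast; ring
  have hq1 : ((q - 1 : ℕ) : ℤ) = (q : ℤ) - 1 := by omega
  have hone : (1 : ℤ) ≤ (q : ℤ) ^ 2 := by nlinarith
  -- which members are multiples of `p`
  have n1 : ¬ p ∣ q ^ 2 - 1 := fun h => hp1 (by
    have h' := Int.natCast_dvd_natCast.2 h
    rw [hsq] at h'
    exact (dvd_sub_right (hpz.trans (dvd_pow_self _ two_ne_zero))).1 h')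
  have n2 : ¬ p ∣ q ^ 2 + q + 1 := fun h => hp.not_dvd_one
    ((Nat.dvd_add_right (Nat.dvd_add (hpq.trans (dvd_pow_self _ two_ne_zero)) hpq)).1 h)
  have n3 : ¬ p ∣ q ^ 2 - q + 1 := fun h => hp.not_dvd_one
    ((Nat.dvd_add_right (Nat.dvd_sub (hpq.trans (dvd_pow_self _ two_ne_zero)) hpq)).1 h)
  have n4 : ¬ p ∣ q - 1 := fun h => hp.not_dvd_one (by
    have := Nat.dvd_sub hpq h
    rwa [show q - (q - 1) = 1 by omega] at this)
  have n5 : ¬ p ∣ q + 1 := fun h => hp.not_dvd_one ((Nat.dvd_add_right hpq).1 h)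
  -- comparisons of the large members
  have big : ∀ a d : ℕ, 0 < d → d < a → ¬ a ∣ d := fun a d h1 h2 h =>
    absurd (Nat.le_of_dvd h1 h) (by omega)
  have e2 : q * 5 ≤ q ^ 2 := by nlinarith
  have c1 : ¬ q ^ 2 + q + 1 ∣ q ^ 2 - 1 := big _ _ (by omega) (by omega)
  have c2 : ¬ q ^ 2 + q + 1 ∣ q ^ 2 - q + 1 := big _ _ (by omega) (by omega)
  have c3 : ¬ q ^ 2 - 1 ∣ q ^ 2 - q + 1 := big _ _ (by omega) (by omega)
  have c4 : ¬ q ^ 2 - 1 ∣ q ^ 2 + q + 1 := fun h => by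
    have h' := Nat.dvd_sub h dvd_rfl
    exact big (q ^ 2 - 1) (q + 2) (by omega) (by omega)
      (by rwa [show q ^ 2 + q + 1 - (q ^ 2 - 1) = q + 2 by omega] at h')
  have c5 : ¬ q ^ 2 - q + 1 ∣ q ^ 2 - 1 := fun h => by
    have h' := Nat.dvd_sub h dvd_rfl
    exact big (q ^ 2 - q + 1) (q - 2) (by omega) (by omega)
      (by rwa [show q ^ 2 - 1 - (q ^ 2 - q + 1) = q - 2 by omega] at h')
  have c6 : ¬ q ^ 2 - q + 1 ∣ q ^ 2 + q + 1 := fun h => by
    have h' := Nat.dvd_sub h dvd_rfl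
    exact big (q ^ 2 - q + 1) (2 * q) (by omega) (by omega)
      (by rwa [show q ^ 2 + q + 1 - (q ^ 2 - q + 1) = 2 * q by omega] at h')
  have c7 : ¬ q - 1 ∣ q + 1 := fun h => by
    have h' := Nat.dvd_sub h dvd_rfl
    exact big (q - 1) 2 (by omega) (by omega)
      (by rwa [show q + 1 - (q - 1) = 2 by omega] at h')
  have c8 : ¬ q + 1 ∣ q - 1 := big _ _ (by omega) (by omega)
  have sep : ∀ {x y : ℕ}, ¬ p ∣ x → x ∣ p * y → x ∣ y := fun {x y} hx h =>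
    ((hp.coprime_iff_not_dvd.2 hx).symm).dvd_of_dvd_mul_left h
  have sep2 : ∀ {x y : ℕ}, ¬ p ∣ y → ¬ p * x ∣ y := fun {x y} hy h => hy (dvd_of_mul_right_dvd h)
  have d1 : ∀ m, 0 < m → m ≤ q + 1 → ¬ q ^ 2 - 1 ∣ m ∧ ¬ q ^ 2 + q + 1 ∣ m ∧ ¬ q ^ 2 - q + 1 ∣ m :=
    fun m h1 h2 => ⟨big _ _ h1 (by omega), big _ _ h1 (by omega), big _ _ h1 (by omega)⟩
  have hsqv : ∀ x : ℕ, ¬ p ∣ x → x ∣ p ^ 2 → x = 1 := fun x hx h =>
    ((hp.coprime_iff_not_dvd.2 hx).symm.pow_right 2).eq_one_of_dvd h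
  have hpp : ∀ x : ℕ, ¬ p ∣ x → ¬ p ^ 2 ∣ p * x := fun x hx h => hx
    (Nat.dvd_of_mul_dvd_mul_left hp.pos (by rwa [sq] at h))
  have hne : ∀ x : ℕ, ¬ p ∣ x → 1 < x → ¬ p * x ∣ p ^ 2 := fun x hx h1 h => by
    rw [sq] at h
    have := (Nat.Prime.eq_one_or_self_of_dvd hp x (Nat.dvd_of_mul_dvd_mul_left hp.pos h))
    rcases this with e | e
    · omega
    · exact hx (e ▸ dvd_rfl)
  intro t ht t' ht' htt
  have hmem : ∀ x, x ∈ ({p * (q + 1), p * (q - 1), q ^ 2 - 1, q ^ 2 + q + 1, q ^ 2 - q + 1} : Set ℕ) ∪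
      (if p = 3 ∨ p = 5 then ({p ^ 2} : Set ℕ) else ∅) →
      x = p * (q + 1) ∨ x = p * (q - 1) ∨ x = q ^ 2 - 1 ∨ x = q ^ 2 + q + 1 ∨
        x = q ^ 2 - q + 1 ∨ x = p ^ 2 := by
    intro x hx
    rcases hx with hx | hx
    · simp only [Set.mem_insert_iff, Set.mem_singleton_iff] at hx
      tauto
    · split_ifs at hx
      · simp only [Set.mem_singleton_iff] at hx
        tauto
      · exact absurd hx (Set.notMem_empty x)
  rcases hmem t ht with rfl | rfl | rfl | rfl | rfl | rfl <;>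
    rcases hmem t' ht' with rfl | rfl | rfl | rfl | rfl | rfl <;>
    first
      | rfl
      | exact absurd htt (sep2 n1)
      | exact absurd htt (sep2 n2)
      | exact absurd htt (sep2 n3)
      | exact absurd (sep n1 htt) (d1 _ (by omega) (by omega)).1
      | exact absurd (sep n2 htt) (d1 _ (by omega) (by omega)).2.1
      | exact absurd (sep n3 htt) (d1 _ (by omega) (by omega)).2.2
      | exact absurd (Nat.dvd_of_mul_dvd_mul_left hp.pos htt) c7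
      | exact absurd (Nat.dvd_of_mul_dvd_mul_left hp.pos htt) c8
      | exact absurd htt (hpp _ n4)
      | exact absurd htt (hpp _ n5)
      | exact absurd htt (hne _ n4 (by omega))
      | exact absurd htt (hne _ n5 (by omega))
      | exact absurd (hsqv _ n1 htt) (by omega)
      | exact absurd (hsqv _ n2 htt) (by omega)
      | exact absurd (hsqv _ n3 htt) (by omega)
      | exact absurd ((dvd_pow_self p two_ne_zero).trans htt) n1
      | exact absurd ((dvd_pow_self p two_ne_zero).trans htt) n2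
      | exact absurd ((dvd_pow_self p two_ne_zero).trans htt) n3
      | exact absurd htt c1 | exact absurd htt c2 | exact absurd htt c3
      | exact absurd htt c4 | exact absurd htt c5 | exact absurd htt c6

end Cfsg.Agent.G2Spec
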