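import Cfsg.Agent.Chev.G2OddCentralizer
import Cfsg.Agent.Chev.Semisimple.Classes
import Cfsg.Agent.Chev.Semisimple.AlcoveG2

/-!
Tables on the roots of G2 for the element orders.
-/

set_option autoImplicit false

namespace Cfsg.Agent.G2Spec

open Cfsg.Lie Cfsg.Agent.Chev

/-- The linear form of a root. -/
def form (r : ℕ) (l : Fin 2) : ℤ := chevG2.cartan (l : ℕ) r

/-- The determinant of two roots. -/
def det2 (r s : ℕ) : ℤ := form r 0 * form s 1 - form r 1 * form s 0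

theorem det2_cases : ∀ r s : Fin chevG2.nroots, (det2 r s).natAbs ≤ 3 ∧
    (det2 r s = 0 → s = r ∨ (s : ℕ) = chevG2.neg r) := by decide +kernel

/-- Zeros modulo three of a non-zero vector which include two independent roots are long. -/
theorem zeros_three : ∀ v : Fin 2 → ZMod 3, v ≠ 0 → ∀ r s : Fin chevG2.nroots, det2 r s ≠ 0 →
    (form r 0 : ZMod 3) * v 0 + (form r 1 : ZMod 3) * v 1 = 0 →
    (form s 0 : ZMod 3) * v 0 + (form s 1 : ZMod 3) * v 1 = 0 →
      ∀ m : Fin chevG2.nroots, (form m 0 : ZMod 3) * v 0 + (form m 1 : ZMod 3) * v 1 = 0 →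
        (m : ℕ) ∈ [0, 1, 5, 6, 10, 11] := by decide +kernel

theorem to_simple : ∀ r : Fin chevG2.nroots, ∃ v ∈ G2Invol.words,
    (pWord facts_chevG2.{0} v r : ℕ) = 7 ∨ (pWord facts_chevG2.{0} v r : ℕ) = 6 := by
  decide +kernel

theorem invol_to_std : ∀ v : Fin 2 → ZMod 2, v ≠ 0 → ∃ w ∈ G2Invol.words,
    ∀ m : Fin chevG2.nroots,
      (form m 0 : ZMod 2) * v 0 + (form m 1 : ZMod 2) * v 1 =
        (form (pWord facts_chevG2.{0} w m : ℕ) 0 : ZMod 2) := by decide +kernel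

theorem even_std : ∀ m : Fin chevG2.nroots,
    ((form m 0 : ZMod 2) = 0 → (m : ℕ) ∈ [0, 4, 7, 11]) := by decide +kernel

/-- The coordinates of a vector orthogonal to a simple root. -/
def perpVec : ℕ → Fin 2 → ℤ
  | 7 => ![1, 2]
  | _ => ![2, 3]

theorem perp_spec : ∀ r ∈ [6, 7], ∀ l : Fin 2,
    form r 0 * perpVec r 0 + form r 1 * perpVec r 1 = 0 ∧
      perpVec r 1 - perpVec r 0 = 1 ∧ (l : ℕ) < 2 := by decide +kernel

theorem stab_simple : ∀ w ∈ G2Invol.words, ∀ r : Fin chevG2.nroots, ((r : ℕ) = 6 ∨ (r : ℕ) = 7) →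
    (pWord facts_chevG2.{0} w r = r ∨ (pWord facts_chevG2.{0} w r : ℕ) = chevG2.neg r) →
    ∃ ε ∈ ([1, -1] : List ℤ), ∀ l : Fin chevG2.rank,
      Eigen.wordV chevG2 w (fun j => perpVec r (Fin.cast (by decide +kernel) j)) l =
        ε * perpVec r (Fin.cast (by decide +kernel) l) := by decide +kernel

end Cfsg.Agent.G2Spec
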