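import Cfsg.Agent.Chev.G2Spec.Cent
import Cfsg.Agent.Chev.G2Spec.Exponent
import Cfsg.Agent.Chev.Semisimple.Classes

/-!
An upper bound for the element orders of G2 over a finite field.
-/

set_option autoImplicit false

namespace Cfsg.Agent.G2Spec

open Cfsg.Lie Cfsg.Agent.Chev Cfsg.Agent.Chev.SS
open Cfsg.Agent.Chev.G2Odd
open Matrix
open scoped MatrixGroups

universe u

theorem exists_setup {F : Type u} [Field F] [Fintype F] (p : ℕ) [Fact p.Prime] [CharP F p] :
    ∃ (k : Type u) (_ : Field k) (_ : IsAlgClosed k) (_ : CharP k p) (σ : k →+* k)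
      (ι : F →+* k), Setup chevG2 alcoveG2 1 (Fintype.card F) σ ι := by
  classical
  generalize hq : Fintype.card F = q
  have hq2 : 2 ≤ q := hq ▸ Fintype.one_lt_card
  let k := AlgebraicClosure F
  let ι : F →+* k := algebraMap F k
  let σ : k →+* k := (FiniteField.frobeniusAlgHom F k).toRingHom
  have hσ : ∀ t : k, σ t = t ^ q := fun t => by
    show FiniteField.frobeniusAlgHom F k t = _
    simp [hq]
  have hchar : CharP k p := (RingHom.charP_iff ι ι.injective p).1 inferInstance
  refine ⟨k, inferInstance, inferInstance, hchar, σ, ι,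
    facts_chevG2, alcoveG2_valid, one_pos, alcoveG2_valid.cartanInv rfl, hq2,
    Nat.coprime_one_left _, hσ, ?_,
    fun a => (FiniteField.frobeniusAlgHom F k).commutes a, fun z hz => ?_, fun u => ?_⟩
  · rw [← map_natCast ι, ← hq, FiniteField.cast_card_eq_zero, map_zero]
  · rw [hσ] at hz
    open Polynomial in
    have hroots : z ∈ ((Finset.univ.image ι).val : Multiset k) := by
      have hdeg : ((X : k[X]) ^ q - X).natDegree = q :=
        FiniteField.X_pow_card_sub_X_natDegree_eq k hq2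
      have hne : ((X : k[X]) ^ q - X) ≠ 0 := FiniteField.X_pow_card_sub_X_ne_zero k hq2
      have heq : (Finset.univ.image ι).val = ((X : k[X]) ^ q - X).roots := by
        refine Multiset.eq_of_le_of_card_le
          ((Multiset.le_iff_subset (Finset.nodup _)).2 fun x hx => ?_) ?_
        · obtain ⟨a, -, rfl⟩ := Finset.mem_image.1 hx
          rw [mem_roots hne, IsRoot.def, eval_sub, eval_pow, eval_X, ← map_pow, ← hq,
            FiniteField.pow_card, sub_self]
        · refine le_trans (card_roots' _) ?_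
          rw [hdeg, Finset.card_val, Finset.card_image_of_injective _ ι.injective,
            Finset.card_univ, hq]
      rw [heq, mem_roots hne, IsRoot.def, eval_sub, eval_pow, eval_X, hz, sub_self]
    obtain ⟨a, -, ha⟩ := Finset.mem_image.1 hroots
    exact ⟨a, ha⟩
  · let E := IntermediateField.adjoin F ({(u : k)} : Set k)
    haveI : FiniteDimensional F E :=
      IntermediateField.adjoin.finiteDimensional (Algebra.IsIntegral.isIntegral (u : k))
    haveI : Finite E := Module.finite_of_finite F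
    haveI : Fintype E := Fintype.ofFinite E
    refine ⟨Fintype.card E - 1, ?_, Units.ext ?_⟩
    · have h1 : ((Fintype.card E : ℕ) : k) = 0 := by
        rw [← map_natCast (algebraMap E k), FiniteField.cast_card_eq_zero, map_zero]
      rw [Nat.cast_sub (Fintype.card_pos : 0 < Fintype.card E), h1, Nat.cast_one, zero_sub]
      exact neg_ne_zero.2 one_ne_zero
    · have hm : (u : k) ∈ E :=
        IntermediateField.subset_adjoin F _ (Set.mem_singleton _)
      have h2 : (⟨(u : k), hm⟩ : E) ^ (Fintype.card E - 1) = 1 :=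
        FiniteField.pow_card_sub_one_eq_one _ fun h => u.ne_zero (congrArg Subtype.val h)
      rw [Units.val_pow_eq_pow_val, Units.val_one]
      simpa using congrArg Subtype.val h2

/-- The matrix of a word. -/
def wM (w : List (Fin chevG2.rank)) : Matrix (Fin 2) (Fin 2) ℤ := wMat chevG2 w

theorem wM_cases : (G2Invol.words.all fun w =>
    decide ((wM w 0 0, wM w 0 1, wM w 1 0, wM w 1 1) ∈
      ([(1, 0, 0, 1), (-1, 0, 0, -1)] : List (ℤ × ℤ × ℤ × ℤ))) ||
    decide ((wM w 0 0 + wM w 1 1, wM w 0 0 * wM w 1 1 - wM w 0 1 * wM w 1 0) ∈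
      ([(0, -1), (1, 1), (-1, 1)] : List (ℤ × ℤ)))) = true := by decide +kernel

/-- The eigenvalue of a word at the line orthogonal to a simple root. -/
theorem wM_perp {w : List (Fin chevG2.rank)} (hw : w ∈ G2Invol.words) {r : Fin chevG2.nroots}
    (hr : (r : ℕ) = 6 ∨ (r : ℕ) = 7)
    (h : pWord facts_chevG2.{u} w r = r ∨ (pWord facts_chevG2.{u} w r : ℕ) = chevG2.neg r) :
    ∃ ε : ℤ, (ε = 1 ∨ ε = -1) ∧ (wM w).mulVec (perpVec r) = fun l => ε * perpVec r l := by
  have h0 : ∀ s, (pWord facts_chevG2.{u} w s : ℕ) = (pWord facts_chevG2.{0} w s : ℕ) := fun s => by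
    rw [pWord_wStep, pWord_wStep]
  obtain ⟨ε, hε, he⟩ := stab_simple w hw r hr (by
    rcases h with h | h
    · exact Or.inl (Fin.ext (by rw [← h0, h]))
    · exact Or.inr (by rw [← h0, h]))
  refine ⟨ε, by simpa using hε, ?_⟩
  show (wMat chevG2 w).mulVec (fun j => perpVec r j) = _
  rw [wMat_mulVec]
  funext l
  exact he l

section Exponents

variable {k : Type u} [Field k]

theorem exists_exp [IsAlgClosed k] {N : ℕ} (hN : (N : k) ≠ 0) {c : Fin chevG2.rank → kˣ}
    (hc : c ^ N = 1) : ∃ (ζ : kˣ) (v : Fin 2 → ℤ), IsPrimitiveRoot ζ N ∧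
      c = fun i => ζ ^ v i := by
  haveI : NeZero (N : k) := ⟨hN⟩
  haveI : NeZero N := ⟨fun h => hN (by rw [h, Nat.cast_zero])⟩
  obtain ⟨z, hz⟩ := HasEnoughRootsOfUnity.exists_primitiveRoot k N
  set ζ : kˣ := (hz.isUnit (NeZero.ne N)).unit
  have hζ : IsPrimitiveRoot ζ N := IsPrimitiveRoot.coe_units_iff.1 hz
  have hexp : ∀ i, ∃ x : ℤ, c i = ζ ^ x := by
    intro i
    have h3 : (c i : k) ^ N = 1 := by
      rw [← Units.val_pow_eq_pow_val, ← Pi.pow_apply, hc, Pi.one_apply, Units.val_one]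
    obtain ⟨j, -, hj⟩ := hz.eq_pow_of_pow_eq_one h3
    exact ⟨j, Units.ext (by rw [zpow_natCast, Units.val_pow_eq_pow_val]; exact hj.symm)⟩
  choose v hv using hexp
  exact ⟨ζ, v, hζ, funext hv⟩

variable {N : ℕ} {ζ : kˣ} (hζ : IsPrimitiveRoot ζ N)
include hζ

theorem zpow_eq_iff (a b : ℤ) : ζ ^ a = ζ ^ b ↔ (a : ZMod N) = b := by
  rw [ZMod.intCast_eq_intCast_iff_dvd_sub, ← hζ.zpow_eq_one_iff_dvd, _root_.zpow_sub, mul_inv_eq_one]
  exact eq_comm

theorem chiU_exp (v : Fin 2 → ℤ) (r : ℕ) :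
    chiU (D := chevG2) (fun i => ζ ^ v i) r = 1 ↔
      (form r 0 : ZMod N) * v 0 + (form r 1 : ZMod N) * v 1 = 0 := by
  have h1 : chiU (D := chevG2) (fun i => ζ ^ v i) r =
      ∏ i : Fin 2, ζ ^ (v i * chevG2.cartan (i : ℕ) r) :=
    Finset.prod_congr rfl fun i _ => (zpow_mul ζ _ _).symm
  rw [h1, ← zpow_finset_sum, hζ.zpow_eq_one_iff_dvd, ← ZMod.intCast_zmod_eq_zero_iff_dvd]
  simp [form, Fin.sum_univ_two, mul_comm]

theorem fix_exp {w : List (Fin chevG2.rank)} {q : ℕ} {v : Fin 2 → ℤ}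
    (h : wordC chevG2 w ((fun i => ζ ^ v i) ^ q) = fun i => ζ ^ v i) (i : Fin 2) :
    (q : ZMod N) * ((wM w i 0 : ZMod N) * v 0 + (wM w i 1 : ZMod N) * v 1) = v i := by
  have hpow : (fun i => ζ ^ v i : Fin chevG2.rank → kˣ) ^ q = fun i => ζ ^ ((q : ℤ) * v i) := by
    funext i
    rw [Pi.pow_apply, ← zpow_natCast, ← _root_.zpow_mul, mul_comm]
  have h' := ((Eigen.wordC_zpow (D := chevG2) w ζ (fun i => (q : ℤ) * v i)).symm.trans
    ((congrArg (wordC chevG2 w) hpow.symm).trans h))
  rw [← wMat_mulVec] at h'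
  have h2 := (zpow_eq_iff hζ _ _).1 (congrFun h' i)
  rw [← h2]
  show _ = (((wM w).mulVec (fun j => (q : ℤ) * v j) i : ℤ) : ZMod N)
  simp [Matrix.mulVec, dotProduct, Fin.sum_univ_two]
  ring

theorem pow_eq_one_of_annihilates (v : Fin 2 → ℤ) (D : ℤ)
    (h : ∀ i, (D : ZMod N) * v i = 0) : (fun i => ζ ^ v i : Fin chevG2.rank → kˣ) ^ D.natAbs = 1 := by
  funext i
  rw [Pi.pow_apply, ← zpow_natCast, ← _root_.zpow_mul, Pi.one_apply, hζ.zpow_eq_one_iff_dvd,
    ← ZMod.intCast_zmod_eq_zero_iff_dvd, Int.cast_mul]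
  rcases Int.natAbs_eq D with e | e
  · rw [← e, mul_comm]; exact h i
  · rw [show ((D.natAbs : ℤ)) = -D by omega, Int.cast_neg, mul_neg, mul_comm, h i, neg_zero]

end Exponents

theorem natAbs_sub_one {q : ℕ} (hq : 1 ≤ q) : ((q : ℤ) - 1).natAbs = q - 1 := by omega

variable {F : Type u} [Field F] [Fintype F] (p : ℕ) [Fact p.Prime] [CharP F p]

/-- The order of an element prime to the characteristic. -/
theorem semisimple_order {x : ↥(chevG2.group F)} (hx : ¬ p ∣ orderOf x) :
    orderOf x ∣ Fintype.card F ^ 2 - 1 ∨ orderOf x ∣ Fintype.card F ^ 2 + Fintype.card F + 1 ∨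
      orderOf x ∣ Fintype.card F ^ 2 - Fintype.card F + 1 := by
  obtain ⟨k, _, _, _, σ, ι, S⟩ := exists_setup (F := F) p
  set q := Fintype.card F with hq
  have hfin : IsOfFinOrder x := isOfFinOrder_of_finite x
  obtain ⟨c, ⟨u, hu⟩, hh⟩ := S.exists_stable p (h := x) hfin
    ((Fact.out : p.Prime).coprime_iff_not_dvd.2 hx).symm
  obtain ⟨w, hw, hwu⟩ := G2Invol.exists_word.{u} u
  rw [wordC_congr S.facts S.valid hwu] at hu
  have hord : orderOf x = orderOf c := by
    obtain ⟨g, -, hg⟩ := hh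
    rw [← orderOf_injective torusHom torus_injective c,
      ← orderOf_injective (MulAut.conj g).toMonoidHom (MulAut.conj g).injective (torusHom c)]
    show _ = orderOf (g * torusHom c * g⁻¹)
    rw [← hg, orderOf_injective (gmap chevG2 ι) (gmap_injective ι), Subgroup.orderOf_coe]
  set N := orderOf c with hN
  have hNk : (N : k) ≠ 0 := fun h => hx (hord ▸ (CharP.cast_eq_zero_iff k p N).1 h)
  obtain ⟨ζ, v, hζ, hcv⟩ := exists_exp hNk (pow_orderOf_eq_one c)
  rw [hcv] at hu
  have h0 := fix_exp hζ hu 0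
  have h1 := fix_exp hζ hu 1
  have fin : ∀ D : ℤ, (∀ i, (D : ZMod N) * v i = 0) → N ∣ D.natAbs := fun D hD => by
    refine hN ▸ orderOf_dvd_of_pow_eq_one ?_
    rw [hcv]; exact pow_eq_one_of_annihilates hζ v D hD
  have hq2 : 2 ≤ q := Fintype.one_lt_card
  have hsq : q ^ 2 - 1 = (q - 1) * (q + 1) := by
    rw [Nat.mul_comm, ← Nat.sq_sub_sq, one_pow]
  rw [hord]
  have h := List.all_eq_true.1 wM_cases w hw
  simp only [Bool.or_eq_true, decide_eq_true_eq, List.mem_cons, List.not_mem_nil, or_false,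
    Prod.mk.injEq] at h
  rcases h with (⟨a, b, c', d⟩ | ⟨a, b, c', d⟩) | h
  · left
    rw [a, b] at h0; rw [c', d] at h1
    refine (fin ((q : ℤ) - 1) fun i => ?_).trans ?_
    · push_cast at h0 h1 ⊢
      fin_cases i
      · simp only [Fin.zero_eta]; linear_combination h0
      · simp only [Fin.mk_one]; linear_combination h1
    · rw [natAbs_sub_one (q := q) (by omega), hsq]; exact Dvd.intro _ rfl
  · left
    rw [a, b] at h0; rw [c', d] at h1
    refine (fin ((q : ℤ) + 1) fun i => ?_).trans ?_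
    · push_cast at h0 h1 ⊢
      fin_cases i
      · simp only [Fin.zero_eta]; linear_combination -h0
      · simp only [Fin.mk_one]; linear_combination -h1
    · rw [show ((q : ℤ) + 1).natAbs = q + 1 by omega, hsq]; exact Dvd.intro_left _ rfl
  · have key : ∀ i, ((1 - (q : ℤ) * (wM w 0 0 + wM w 1 1) +
        (q : ℤ) ^ 2 * (wM w 0 0 * wM w 1 1 - wM w 0 1 * wM w 1 0) : ℤ) : ZMod N) * v i = 0 := by
      intro i
      push_cast
      fin_cases i
      · simp only [Fin.zero_eta]
        linear_combination ((q : ZMod N) * (wM w 1 1 : ZMod N) - 1) * h0 -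
          (q : ZMod N) * (wM w 0 1 : ZMod N) * h1
      · simp only [Fin.mk_one]
        linear_combination ((q : ZMod N) * (wM w 0 0 : ZMod N) - 1) * h1 -
          (q : ZMod N) * (wM w 1 0 : ZMod N) * h0
    have hd := fin _ key
    rcases h with ⟨a, b⟩ | ⟨a, b⟩ | ⟨a, b⟩ <;> rw [a, b] at hd
    · left
      refine hd.trans (dvd_of_eq ?_)
      have : 1 ≤ q ^ 2 := Nat.one_le_pow _ _ (by omega)
      zify [this]
      rw [abs_of_nonpos (by nlinarith)]; ring
    · right; right
      refine hd.trans (dvd_of_eq ?_)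
      have : q ≤ q ^ 2 := Nat.le_self_pow two_ne_zero q
      zify [this]
      rw [abs_of_nonneg (by nlinarith)]; ring
    · right; left
      refine hd.trans (dvd_of_eq ?_)
      zify
      rw [abs_of_nonneg (by nlinarith)]; ring

/-- An element of order divisible by the characteristic, not of prime power order. -/
theorem mixed_order {x : ↥(chevG2.group F)} {j m : ℕ} (hx : orderOf x = p ^ j * m)
    (hj : 1 ≤ j) (hm : ¬ p ∣ m) (hm1 : 1 < m) :
    orderOf x ∣ p * (Fintype.card F - 1) ∨ orderOf x ∣ p * (Fintype.card F + 1) ∨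
      (p = 2 ∧ orderOf x ∣ 12) := by
  have hp : p.Prime := Fact.out
  have hpj : p ^ j ≠ 0 := pow_ne_zero _ hp.ne_zero
  obtain ⟨k, _, _, _, σ, ι, S⟩ := exists_setup (F := F) p
  set q := Fintype.card F with hq
  have hF := facts_chevG2.{u}
  have ho1 : orderOf (x ^ p ^ j) = m := by
    rw [orderOf_pow' x hpj, hx, Nat.gcd_mul_right_left, Nat.mul_div_cancel_left _ (by omega)]
  have ho2 : orderOf (x ^ m) = p ^ j := by
    rw [orderOf_pow' x (by omega), hx, Nat.gcd_mul_left_left, Nat.mul_div_cancel _ (by omega)]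
  obtain ⟨c₀, hc₀, hh₀⟩ := S.exists_stable p (h := x ^ p ^ j) (isOfFinOrder_of_finite _)
    (by rw [ho1]; exact (hp.coprime_iff_not_dvd.2 hm).symm)
  -- data at any conjugate of the torus element
  have main : ∀ c, StableT chevG2 q c → InClass ι c (x ^ p ^ j) →
      orderOf c = m ∧ ∀ i : ℕ, (∀ y ∈ chevG2.group k, torusHom c * y = y * torusHom c →
        y ^ p ^ j = 1 → y ^ p ^ i = 1) → p ^ j ∣ p ^ i := by
    intro c _ ⟨g, hg, hgc⟩
    refine ⟨?_, fun i hi => ?_⟩
    · rw [← ho1, ← orderOf_injective torusHom torus_injective c,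
        ← orderOf_injective (MulAut.conj g).toMonoidHom (MulAut.conj g).injective (torusHom c)]
      show orderOf (g * torusHom c * g⁻¹) = _
      rw [← hgc, orderOf_injective (gmap chevG2 ι) (gmap_injective ι), Subgroup.orderOf_coe]
    · set X := gmap chevG2 ι ((x ^ m : ↥(chevG2.group F)) : GL chevG2.Idx F) with hX
      have hXG : X ∈ chevG2.group k := gmap_mem_group hF hF ι (x ^ m).2
      have hXo : ∀ n, X ^ n = 1 ↔ (x ^ m) ^ n = 1 := fun n => by
        rw [hX, ← map_pow, ← map_one (gmap chevG2 ι), (gmap_injective ι).eq_iff,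
          ← Subgroup.coe_pow, ← Subgroup.coe_one, Subtype.coe_inj]
      have hcomm : gmap chevG2 ι ((x ^ p ^ j : ↥(chevG2.group F)) : GL chevG2.Idx F) * X =
          X * gmap chevG2 ι ((x ^ p ^ j : ↥(chevG2.group F)) : GL chevG2.Idx F) := by
        rw [hX, ← map_mul, ← map_mul, ← Subgroup.coe_mul, ← Subgroup.coe_mul,
          (Commute.pow_pow_self x _ _).eq]
      rw [hgc] at hcomm
      have hy := hi (g⁻¹ * X * g) (Subgroup.mul_mem _
        (Subgroup.mul_mem _ (Subgroup.inv_mem _ hg) hXG) hg) (by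
          calc torusHom c * (g⁻¹ * X * g) = g⁻¹ * (g * torusHom c * g⁻¹ * X) * g := by group
            _ = g⁻¹ * (X * (g * torusHom c * g⁻¹)) * g := by rw [hcomm]
            _ = _ := by group) (by
          rw [show g⁻¹ * X * g = g⁻¹ * X * g⁻¹⁻¹ by rw [inv_inv], conj_pow,
            (hXo _).2 (by rw [← ho2, pow_orderOf_eq_one])]
          group)
      rw [show g⁻¹ * X * g = g⁻¹ * X * g⁻¹⁻¹ by rw [inv_inv], conj_pow, conj_eq_one_iff,
        hXo] at hy
      exact ho2 ▸ orderOf_dvd_of_pow_eq_one hy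
  have hj1 : ∀ i : ℕ, p ^ j ∣ p ^ i → orderOf x ∣ p ^ i * m := fun i h => hx ▸ Nat.mul_dvd_mul_right h m
  have hNk : (m : k) ≠ 0 := fun h => hm ((CharP.cast_eq_zero_iff k p m).1 h)
  by_cases hreg : ∀ r : Fin chevG2.nroots, chiU c₀ (r : ℕ) ≠ 1
  · -- a regular element commutes with no element of `p`-power order
    exfalso
    obtain ⟨-, hmain⟩ := main c₀ hc₀ hh₀
    have h := hmain 0 fun y hy hcy hy1 => by
      rw [pow_zero, pow_one]
      obtain ⟨d, rfl⟩ : y ∈ (torusHom : (Fin chevG2.rank → kˣ) →* GL chevG2.Idx k).range :=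
        mem_of_comm S.tor hy hcy _ (fun r hr => absurd hr (hreg r)) (fun d => ⟨d, rfl⟩)
      rw [torus_eq_one_of_pow p (Subgroup.one_mem _) d (j := j) (by rw [mul_one]; exact hy1),
        map_one]
    rw [pow_zero] at h
    exact absurd (Nat.le_of_dvd one_pos h) (not_le.2 (Nat.one_lt_pow (by omega) hp.one_lt))
  push Not at hreg
  obtain ⟨r₀, hr₀⟩ := hreg
  obtain ⟨w₀, -, hw₀⟩ := to_simple r₀
  set c := wordC chevG2 w₀ c₀ with hcdef
  have hc : StableT chevG2 q c := S.stableT_wordC hc₀ w₀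
  have hh : InClass ι c (x ^ p ^ j) := S.inClass_wordC hh₀ w₀
  set r : Fin chevG2.nroots := pWord hF w₀ r₀ with hrdef
  have hr : chiU c (r : ℕ) = 1 := by rw [hcdef, hrdef, chiU_wordC hF, hr₀]
  have hr67 : (r : ℕ) = 6 ∨ (r : ℕ) = 7 := by
    rw [hrdef, pWord_wStep]; simp only [pWord_wStep] at hw₀; exact hw₀.symm
  obtain ⟨hcord, hmain⟩ := main c hc hh
  obtain ⟨ζ, v, hζ, hcv⟩ := exists_exp hNk (show c ^ m = 1 by rw [← hcord, pow_orderOf_eq_one])
  have fin : ∀ D : ℤ, (∀ i, (D : ZMod m) * v i = 0) → m ∣ D.natAbs := fun D hD => by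
    rw [← hcord]
    refine orderOf_dvd_of_pow_eq_one ?_
    rw [hcv]; exact pow_eq_one_of_annihilates hζ v D hD
  have hzero : ∀ s : Fin chevG2.nroots, chiU c (s : ℕ) = 1 ↔
      (form s 0 : ZMod m) * v 0 + (form s 1 : ZMod m) * v 1 = 0 := fun s => by
    rw [hcv]; exact chiU_exp hζ v s
  by_cases hone : ∀ s : Fin chevG2.nroots, chiU c (s : ℕ) = 1 →
      s = r ∨ (s : ℕ) = chevG2.neg r
  · -- one root
    obtain ⟨u, hu⟩ := hc
    obtain ⟨w, hw, hwu⟩ := G2Invol.exists_word.{u} u
    rw [wordC_congr S.facts S.valid hwu] at hu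
    have hpos : chiU c (pWord hF w r : ℕ) = 1 := by
      rw [← hu, chiU_wordC hF, chiU_pow, hr, one_pow]
    obtain ⟨ε, hε, hεv⟩ := wM_perp hw hr67 (hone _ hpos)
    have hvt : ∀ l, (v l : ZMod m) = ((v 1 : ZMod m) - v 0) * (perpVec r l : ZMod m) := by
      have h := (hzero r).1 hr
      have e6 : form 6 0 = -3 ∧ form 6 1 = 2 ∧ form 7 0 = 2 ∧ form 7 1 = -1 := by decide +kernel
      intro l
      rcases hr67 with e | e <;> rw [e] at h ⊢
      · rw [e6.1, e6.2.1] at h
        push_cast at h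
        fin_cases l
        · show (v 0 : ZMod m) = ((v 1 : ZMod m) - v 0) * ((2 : ℤ) : ZMod m)
          push_cast; linear_combination -h
        · show (v 1 : ZMod m) = ((v 1 : ZMod m) - v 0) * ((3 : ℤ) : ZMod m)
          push_cast; linear_combination -h
      · rw [e6.2.2.1, e6.2.2.2] at h
        push_cast at h
        fin_cases l
        · show (v 0 : ZMod m) = ((v 1 : ZMod m) - v 0) * ((1 : ℤ) : ZMod m)
          push_cast; linear_combination h
        · show (v 1 : ZMod m) = ((v 1 : ZMod m) - v 0) * ((2 : ℤ) : ZMod m)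
          push_cast; linear_combination h
    rw [hcv] at hu
    have hann : ∀ i, ((1 - (q : ℤ) * ε : ℤ) : ZMod m) * v i = 0 := by
      intro i
      have h2 := fix_exp hζ hu i
      have h3 := congrArg (fun z : ℤ => (z : ZMod m)) (congrFun hεv i)
      simp [Matrix.mulVec, dotProduct, Fin.sum_univ_two] at h3
      have h4 := hvt i
      push_cast
      linear_combination (q : ZMod m) * ((v 1 : ZMod m) - v 0) * h3 - h2 +
        (q : ZMod m) * (wM w i 0 : ZMod m) * hvt 0 + (q : ZMod m) * (wM w i 1 : ZMod m) * hvt 1 -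
        (q : ZMod m) * (ε : ZMod m) * h4
    have hp1 : p ^ j ∣ p ^ 1 := hmain 1 fun y hy hcy hy1 => by
      rw [pow_one]
      have hi : ∃ i : Fin chevG2.rank, chevG2.simple i = (r : ℕ) := by
        rcases hr67 with e | e <;> rw [e]
        · exact ⟨G2Invol.ib, by decide +kernel⟩
        · exact ⟨G2Invol.ia, by decide +kernel⟩
      obtain ⟨i, hi⟩ := hi
      exact pow_eq_one_single S.tor p i (fun s hs => by
        rw [hi]; exact (hone s hs).imp (fun e => by rw [e]) id) hy hcy hy1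
    have hd := fin _ hann
    have := hj1 1 hp1
    rw [pow_one] at this
    have hq2 : 2 ≤ q := Fintype.one_lt_card
    rcases hε with rfl | rfl
    · refine Or.inl (this.trans (Nat.mul_dvd_mul_left p ?_))
      rwa [show (1 - (q : ℤ) * 1).natAbs = q - 1 by omega] at hd
    · refine Or.inr (Or.inl (this.trans (Nat.mul_dvd_mul_left p ?_)))
      rwa [show (1 - (q : ℤ) * -1).natAbs = q + 1 by omega] at hd
  push Not at hone
  obtain ⟨s, hs, hsr, hsn⟩ := hone
  have hdet0 : det2 r s ≠ 0 := fun h => ((det2_cases r s).2 h).elim hsr hsn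
  have hle := (det2_cases r s).1
  have hdet : m ∣ (det2 r s).natAbs := by
    refine fin _ fun i => ?_
    have e1 := (hzero r).1 hr
    have e2 := (hzero s).1 hs
    rw [det2]
    push_cast
    fin_cases i
    · simp only [Fin.zero_eta]
      linear_combination (form s 1 : ZMod m) * e1 - (form r 1 : ZMod m) * e2
    · simp only [Fin.mk_one]
      linear_combination (form r 0 : ZMod m) * e2 - (form s 0 : ZMod m) * e1
  have hm3 : m = 2 ∨ m = 3 := by
    have := Nat.le_of_dvd (by omega) hdet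
    omega
  have hvne : (fun i => (v i : ZMod m)) ≠ 0 := fun h => by
    have h1 : c = 1 := by
      rw [hcv]
      funext i
      show ζ ^ v i = 1
      rw [hζ.zpow_eq_one_iff_dvd, ← ZMod.intCast_zmod_eq_zero_iff_dvd]
      exact congrFun h i
    rw [h1, orderOf_one] at hcord
    omega
  have hq2 : 2 ≤ q := Fintype.one_lt_card
  have hqp : p ∣ q := by
    obtain ⟨e, -, he⟩ := FiniteField.card F p
    exact hq.symm ▸ he.symm ▸ dvd_pow_self p e.ne_zero
  rcases hm3 with rfl | rfl
  · -- an involution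
    obtain ⟨w, -, hw⟩ := invol_to_std (fun i => (v i : ZMod 2)) hvne
    have hc' : StableT chevG2 q (wordC chevG2 w c) := S.stableT_wordC hc w
    obtain ⟨-, hmain'⟩ := main _ hc' (S.inClass_wordC hh w)
    have hp1 : p ^ j ∣ p ^ 1 := hmain' 1 fun y hy hcy hy1 => by
      rw [pow_one]
      refine pow_eq_one_pair S.tor p (fun t ht => ?_) hy hcy hy1
      obtain ⟨t₀, rfl⟩ := (pWord hF w).surjective t
      rw [chiU_wordC hF, hzero t₀, hw t₀] at ht
      refine even_std _ ?_
      rw [pWord_wStep] at ht ⊢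
      exact ht
    refine Or.inl ((hj1 1 hp1).trans ?_)
    rw [pow_one]
    refine Nat.mul_dvd_mul_left p ?_
    have hodd : Odd p := hp.odd_of_ne_two fun h => hm (h ▸ dvd_rfl)
    obtain ⟨e, -, he⟩ := FiniteField.card F p
    have : Odd q := hq.symm ▸ he.symm ▸ hodd.pow
    obtain ⟨t, ht⟩ := this
    exact ⟨t, by omega⟩
  · -- an element of order three
    have hlong : ∀ t : Fin chevG2.nroots, chiU c (t : ℕ) = 1 → (t : ℕ) ∈ [0, 1, 5, 6, 10, 11] :=
      fun t ht => zeros_three (fun i => (v i : ZMod 3)) hvne r s hdet0 ((hzero r).1 hr)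
        ((hzero s).1 hs) t ((hzero t).1 ht)
    by_cases hp2 : p = 2
    · subst hp2
      have hp1 : 2 ^ j ∣ 2 ^ 2 := hmain 2 fun y hy hcy hy1 =>
        pow_eq_one_long S.tor 2 hlong hy hcy hy1 (by norm_num)
      exact Or.inr (Or.inr ⟨rfl, by simpa using hj1 2 hp1⟩)
    · have hp3 : 3 ≤ p := by have := hp.two_le; omega
      have hp1 : p ^ j ∣ p ^ 1 := hmain 1 fun y hy hcy hy1 =>
        pow_eq_one_long S.tor p hlong hy hcy hy1 (by simpa using hp3)
      have h := hj1 1 hp1
      rw [pow_one] at h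
      have h3 : ¬ 3 ∣ q := by
        obtain ⟨e, -, he⟩ := FiniteField.card F p
        exact fun hd => hm (((Nat.prime_dvd_prime_iff_eq Nat.prime_three hp).1
          (Nat.prime_three.dvd_of_dvd_pow (he ▸ hq ▸ hd))) ▸ dvd_refl 3)
      rcases (show 3 ∣ q - 1 ∨ 3 ∣ q + 1 by omega) with e | e
      · exact Or.inl (h.trans (Nat.mul_dvd_mul_left p e))
      · exact Or.inr (Or.inl (h.trans (Nat.mul_dvd_mul_left p e)))

/-- The element orders. -/
theorem order_cases (x : ↥(chevG2.group F)) :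
    orderOf x ∣ Fintype.card F ^ 2 - 1 ∨ orderOf x ∣ Fintype.card F ^ 2 + Fintype.card F + 1 ∨
      orderOf x ∣ Fintype.card F ^ 2 - Fintype.card F + 1 ∨
      orderOf x ∣ p * (Fintype.card F - 1) ∨ orderOf x ∣ p * (Fintype.card F + 1) ∨
      (p = 2 ∧ orderOf x ∣ 12) ∨ ∀ i : ℕ, 7 ≤ p ^ i → orderOf x ∣ p ^ i := by
  have hp : p.Prime := Fact.out
  obtain ⟨j, m, hm, hx⟩ := Nat.exists_eq_pow_mul_and_not_dvd (orderOf_pos x).ne' p hp.ne_one
  rcases Nat.eq_zero_or_pos j with rfl | hj
  · rcases semisimple_order p (x := x) (by rw [hx, pow_zero, one_mul]; exact hm) with h | h | h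
    · exact Or.inl h
    · exact Or.inr (Or.inl h)
    · exact Or.inr (Or.inr (Or.inl h))
  · rcases Nat.lt_or_ge 1 m with hm1 | hm1
    · rcases mixed_order p hx hj hm hm1 with h | h | h
      · exact Or.inr (Or.inr (Or.inr (Or.inl h)))
      · exact Or.inr (Or.inr (Or.inr (Or.inr (Or.inl h))))
      · exact Or.inr (Or.inr (Or.inr (Or.inr (Or.inr (Or.inl h)))))
    · obtain rfl : m = 1 := by
        rcases Nat.eq_zero_or_pos m with rfl | h
        · exact absurd (dvd_zero p) hm
        · omega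
      rw [mul_one] at hx
      refine Or.inr (Or.inr (Or.inr (Or.inr (Or.inr (Or.inr fun i hi => ?_)))))
      exact orderOf_dvd_of_pow_eq_one (exists_pow_eq_one (p := p) (i := j)
        (by rw [← hx, pow_orderOf_eq_one]) hi)

end Cfsg.Agent.G2Spec
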